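import Cfsg.Agent.Lib.ThreeTransp.U62Class.Global
import Cfsg.Agent.Lib.ThreeTransp.W22.Orth
import Cfsg.Agent.S5452

/-!
An involution with centraliser a quasisimple double cover of `PSU(6, 2)`, not weakly closed, gives a
primitive group of type M(22).
-/

set_option autoImplicit false
set_option linter.unusedSectionVars false
set_option linter.style.haveILetI false

namespace Cfsg.Agent.ThreeTransp.U62Class

open Cfsg.Agent.ThreeTransp.Factor (nb Hd Sd)

universe u

variable {G : Type u} [Group G] [Finite G]

namespace Ctx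

variable {F : Type} [Field F] [Fintype F] (K : Ctx G F)

include K in
theorem card_C_eq : Nat.card ↥K.C = 18393661440 := by
  rw [K.card_C]
  have h := Classical.Unitary.natCard_PSU_mul (n := 6) (q := 2) (F := F) K.hF (by norm_num)
  rw [Classical.Unitary.natCard_GU K.hF, show Nat.gcd 6 (2 + 1) = 3 from rfl] at h
  simp [Finset.prod_range_succ, Nat.even_iff] at h
  omega

/-- Conjugation carries the data at `d` to every member. -/
theorem weak : W22.Weak G K.cls := by
  refine ⟨K.center_eq_bot, K.primitive.1, fun a ha => ?_, fun a ha => ?_⟩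
  · obtain ⟨g, hg⟩ := K.exists_to_d ha
    obtain ⟨φ⟩ := K.local_unitary
    have hmap : (Hd K.cls a).map (MulAut.conj g).toMonoidHom = Hd K.cls K.d := by
      rw [MonoidHom.map_closure]
      congr 1
      ext y
      constructor
      · rintro ⟨x, ⟨hx, hxa, hax⟩, rfl⟩
        refine ⟨K.conj_mem g hx, fun e => hxa ?_, ?_⟩
        · exact (MulAut.conj g).injective (e.trans hg.symm)
        · show Commute K.d (g * x * g⁻¹)
          rw [← hg]; exact Basic.commute_conj.2 hax
      · rintro ⟨hy, hyd, hdy⟩
        refine ⟨g⁻¹ * y * g, ⟨?_, fun e => hyd ?_, ?_⟩, ?_⟩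
        · simpa using K.conj_mem g⁻¹ hy
        · rw [← hg, ← e]; group
        · refine (Basic.commute_conj (g := g)).1 ?_
          rw [hg, show g * (g⁻¹ * y * g) * g⁻¹ = y by group]; exact hdy
        · show g * (g⁻¹ * y * g) * g⁻¹ = y
          group
    let e : ↥(Hd K.cls a) ≃* ↥(Hd K.cls K.d) :=
      ((Hd K.cls a).equivMapOfInjective _ (MulAut.conj g).injective).trans
        (MulEquiv.subgroupCongr hmap)
    refine ⟨F, inferInstance, inferInstance, K.hF, ⟨(QuotientGroup.congr _ _ e ?_).trans φ⟩⟩
    ext x
    constructor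
    · rintro ⟨z, hz, rfl⟩
      rw [Subgroup.mem_center_iff]
      intro w
      obtain ⟨w, rfl⟩ := e.surjective w
      show e w * e z = e z * e w
      rw [← map_mul, Subgroup.mem_center_iff.1 hz w, map_mul]
    · intro hx
      refine ⟨e.symm x, ?_, e.apply_symm_apply x⟩
      rw [SetLike.mem_coe, Subgroup.mem_center_iff]
      intro w
      apply e.injective
      rw [map_mul, map_mul, e.apply_symm_apply, Subgroup.mem_center_iff.1 hx]
  · obtain ⟨g, hg⟩ := K.exists_to_d ha
    have hle : (Subgroup.centralizer ({a} : Set G)).map (MulAut.conj g).toMonoidHom ≤ K.C := by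
      rintro _ ⟨c, hc, rfl⟩
      refine K.mem_C.2 (show Commute (g * c * g⁻¹) K.d from ?_)
      rw [← hg]
      exact Basic.commute_conj.2 (Subgroup.mem_centralizer_singleton_iff.1 hc)
    have h := Subgroup.card_dvd_of_le hle
    rw [Subgroup.card_map_of_injective (MulAut.conj g).injective, K.card_C_eq] at h
    intro h121
    exact absurd (h121.trans h) (by norm_num)

/-- The class is of type M(22). -/
theorem type22 : Cfsg.IsOfTypeM22 G K.cls := by
  obtain ⟨y, hy, hyd⟩ := K.exists_outer
  have hnc : ¬ Commute K.d y := fun h => hyd h.symm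
  exact ⟨K.center_eq_bot, K.d, K.d_mem_cls, y, hy, hnc,
    ⟨F, inferInstance, inferInstance, K.hF, K.local_unitary⟩, 1, by decide,
    W22.orth K.isGroup K.primitive K.weak K.d_mem_cls hy hnc⟩

end Ctx

/-- The standing hypotheses hold for a quasisimple centraliser. -/
theorem exists_ctx (d : G) (hd : orderOf d = 2)
    (hq : Cfsg.IsQuasisimple ↥(Subgroup.centralizer ({d} : Set G)))
    [((Subgroup.zpowers d).subgroupOf (Subgroup.centralizer ({d} : Set G))).Normal]
    (F : Type) [Field F] [Fintype F] (hF : Fintype.card F = 4)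
    (e : ↥(Subgroup.centralizer ({d} : Set G)) ⧸
      (Subgroup.zpowers d).subgroupOf (Subgroup.centralizer ({d} : Set G)) ≃* Cfsg.PSU 6 F 2)
    (hnwc : ∃ g : G, g * d * g⁻¹ ∈ Subgroup.centralizer ({d} : Set G) ∧ g * d * g⁻¹ ≠ d) :
    ∃ K : Ctx G F, K.cls = conjugatesOf d := by
  have hdd : d * d = 1 := by rw [← pow_two, ← hd, pow_orderOf_eq_one]
  have hd1 : d ≠ 1 := fun h => by
    rw [h, orderOf_one] at hd
    exact absurd hd (by norm_num)
  obtain ⟨D, hfacts⟩ := U62Cover.Model.exists_data_facts (F := F) (by rw [hF]; norm_num)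
  have hker : ∀ c : ↥(Subgroup.centralizer ({d} : Set G)),
      e (QuotientGroup.mk c) = 1 ↔ c = 1 ∨ (c : G) = d := by
    intro c
    rw [e.map_eq_one_iff, QuotientGroup.eq_one_iff, Subgroup.mem_subgroupOf,
      ← mem_powers_iff_mem_zpowers]
    constructor
    · rintro ⟨k, hk⟩
      have hk' : d ^ k = (c : G) := hk
      rcases Nat.even_or_odd' k with ⟨j, rfl | rfl⟩
      · left
        exact Subtype.ext (by rw [← hk', pow_mul, pow_two, hdd, one_pow]; rfl)
      · right
        rw [← hk', pow_succ, pow_mul, pow_two, hdd, one_pow, one_mul]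
    · rintro (rfl | h)
      · exact Submonoid.one_mem _
      · exact ⟨1, by simp [h]⟩
  let X : U62Cover.Cover (Subgroup.centralizer ({d} : Set G)) (Cfsg.PSU 6 F 2) :=
    { d := d
      f := e.toMonoidHom.comp (QuotientGroup.mk' _)
      D := D
      d_sq := hdd
      d_ne := hd1
      mem := fun g => Subgroup.mem_centralizer_singleton_iff
      surj := e.surjective.comp (QuotientGroup.mk'_surjective _)
      ker := hker
      not_sq := fun ⟨g, hg⟩ =>
        (Cfsg.Agent.S5452.result d hd hq F hF e hnwc).2 ⟨g, by rw [pow_two, hg]⟩ }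
  exact ⟨{ hF := by rw [hF]; norm_num
           C := Subgroup.centralizer ({d} : Set G)
           X := X
           n22 := X.ncard_eq hq.1.commutator_eq_top hnwc
           dd_gen := Subgroup.mem_sup_left
             (hq.1.commutator_eq_top.symm ▸ Subgroup.mem_top X.dd)
           facts := hfacts }, rfl⟩

end Cfsg.Agent.ThreeTransp.U62Class
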