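import Cfsg.Agent.Lib.ThreeTransp.U62Cover.Parabolic
import Cfsg.Agent.GroupStructure3.ThreeTransUnitary

/-!
The class of 21 elements in the large elementary abelian subgroup of `PSU(6, 2)`: transvections
generating it, permuted evenly by the two root parts.
-/

set_option autoImplicit false
set_option linter.unusedSectionVars false
set_option synthInstance.maxSize 4096
set_option synthInstance.maxHeartbeats 400000
set_option maxRecDepth 100000

namespace Cfsg.Agent.ThreeTransp.U62Cover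

open Cfsg.Agent.GroupStructure3.ThreeTransUnitary (tr)

/-- The facts on the class of transvections in `E`. -/
structure Facts {F : Type*} [Field F] [Fintype F] (hF : Fintype.card F = 2 ^ 2)
    (D : Data (Cfsg.PSU 6 F 2)) : Prop where
  vec : ∀ r ∈ D.O 0, ∃ (v : Fin 6 → F) (hv : Cfsg.hermForm 6 F 2 v v = 0), v ≠ 0 ∧
    r = QuotientGroup.mk' (Subgroup.center (Cfsg.SU 6 F 2)) (tr hF hv)
  gen : D.E ≤ Subgroup.closure (D.O 0)
  even : ∀ b : Cfsg.PSU 6 F 2, b ∈ D.B₁ ∨ b ∈ D.B₂ →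
    4 ∣ {r | r ∈ D.O 0 ∧ b * r * b⁻¹ ≠ r}.ncard

namespace Model

open Matrix Cfsg.Agent.Classical.Unitary
open Cfsg.Agent.Forms.SU32 (E4 o l w v mE V3 M3 mulM tr cj)
open Setup (cl root)
open Cfsg.Agent.GroupStructure3.ThreeTransUnitary (rank_one_iff tr_conj tr_sq)

/-- the nine coordinate parameters -/
def unit9 : List P9 :=
  [((1, 0, 0), o, o, o), ((0, 1, 0), o, o, o), ((0, 0, 1), o, o, o), ((0, 0, 0), l, o, o),
    ((0, 0, 0), w, o, o), ((0, 0, 0), o, l, o), ((0, 0, 0), o, w, o), ((0, 0, 0), o, o, l),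
    ((0, 0, 0), o, o, w)]

/-- the first class and zero -/
def cls0z : List P9 := ((cl (0 : Fin 3)).map fun e : P9 × ℕ × ℕ => e.1) ++ [0]

/-- three members of the first class with sum a coordinate parameter -/
def units9 : List (ℕ × ℕ × ℕ) :=
  [(0, 0, 0), (0, 0, 5), (0, 0, 12), (0, 1, 5), (0, 5, 6), (0, 3, 12), (0, 12, 13), (5, 12, 15), (5, 12, 20)]

theorem units9_ok : ∀ i : Fin 9, unit9.getD i 0 =
    cls0z.getD (units9.getD i (21, 21, 21)).1 0 +
    cls0z.getD (units9.getD i (21, 21, 21)).2.1 0 +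
    cls0z.getD (units9.getD i (21, 21, 21)).2.2 0 := by
  decide +kernel

theorem moved_left : ∀ a : E4,
    4 ∣ (((cl (0 : Fin 3)).map fun e : P9 × ℕ × ℕ => e.1).filter fun p =>
      act (hM (a, o, o)) (herm p) != herm p).length := by
  decide +kernel

theorem moved_right : ∀ b c : E4,
    4 ∣ (((cl (0 : Fin 3)).map fun e : P9 × ℕ × ℕ => e.1).filter fun p =>
      act (hM (o, b, c)) (herm p) != herm p).length := by
  decide +kernel

theorem root_zero : herm (root 0) = ((l, o, o), (o, o, o), (o, o, o)) := by decide +kernel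

theorem split9 : ∀ p : P9, p =
    (p.1.1.val • unit9.getD 0 0 + p.1.2.1.val • unit9.getD 1 0 + p.1.2.2.val • unit9.getD 2 0) +
    (p.2.1.1.val • unit9.getD 3 0 + p.2.1.2.val • unit9.getD 4 0) +
    (p.2.2.1.1.val • unit9.getD 5 0 + p.2.2.1.2.val • unit9.getD 6 0) +
    (p.2.2.2.1.val • unit9.getD 7 0 + p.2.2.2.2.val • unit9.getD 8 0) := by
  decide +kernel

variable {F : Type*} [Field F] [Fintype F] (X : Setup F)

namespace Setup

local notation "G6" => Cfsg.SU 6 F 2

theorem U_root_vec : ∃ (x : Fin 6 → F) (hx : Cfsg.hermForm 6 F 2 x x = 0), x ≠ 0 ∧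
    X.U (root 0) = GroupStructure3.ThreeTransUnitary.tr X.card hx := by
  refine (rank_one_iff X.card _).1 ?_
  set g := X.U (root 0) with hg
  have hne : g ≠ 1 := by
    intro h
    have h0 : root 0 = 0 := X.U_inj (h.trans X.U_zero.symm)
    exact absurd h0 (by decide +kernel)
  have hM : mat g - 1 = Matrix.vecMulVec (fun r => X.P r (Sum.inl 0))
      (fun r => X.Q (Sum.inr 0) r) := by
    have e1 : mat g = X.P * X.cd g * X.Q := by
      rw [cd]
      calc mat g = (X.P * X.Q) * mat g * (X.P * X.Q) := by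
            rw [X.P_Q, Matrix.one_mul, Matrix.mul_one]
        _ = _ := by simp only [Matrix.mul_assoc]
    have e2 : mat g - 1 = X.P * (X.cd g - 1) * X.Q := by
      rw [Matrix.mul_sub, Matrix.sub_mul, Matrix.mul_one, X.P_Q, ← e1]
    have e3 : X.cd g - 1 = Matrix.vecMulVec (Pi.single (Sum.inl 0) 1) (Pi.single (Sum.inr 0) 1) := by
      rw [hg, X.cd_U, root_zero, ← fromBlocks_one]
      ext i j
      rcases i with i | i <;> rcases j with j | j <;> fin_cases i <;> fin_cases j <;>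
        simp [toM, X.ι_o, X.ι_l, Matrix.vecMulVec_apply]
    rw [e2, e3]
    ext i j
    simp [Matrix.mul_apply, Matrix.vecMulVec_apply, Pi.single_apply]
  show (mat g - 1).rank = 1
  rw [hM]
  refine le_antisymm (Matrix.rank_vecMulVec_le _ _) (Nat.one_le_iff_ne_zero.2 fun h => ?_)
  refine hne (SU_ext fun x => ?_)
  rw [Matrix.rank, Submodule.finrank_eq_zero, LinearMap.range_eq_bot] at h
  have h1 : (mat g - 1) *ᵥ x = 0 := by
    rw [hM, ← Matrix.mulVecLin_apply, h, LinearMap.zero_apply]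
  rw [mat_one, one_mulVec]
  rwa [sub_mulVec, one_mulVec, sub_eq_zero] at h1

theorem O_zero_mem {p : P9} (hp : p ∈ (cl (0 : Fin 3)).map fun e : P9 × ℕ × ℕ => e.1) :
    X.π (X.U p) ∈ X.O 0 :=
  ⟨p, hp, rfl⟩

theorem O_zero_gen : X.E'.map X.π ≤ Subgroup.closure (X.O 0) := by
  let K : Subgroup (Cfsg.PSU 6 F 2) := Subgroup.closure (X.O (0 : Fin 3))
  let φ : AddSubmonoid P9 :=
    { carrier := (fun p : P9 => X.π (X.U p)) ⁻¹' (K : Set (Cfsg.PSU 6 F 2))
      add_mem' := fun {a b} ha hb => by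
        have e : X.π (X.U (a + b)) = X.π (X.U a) * X.π (X.U b) := by rw [← X.U_mul, map_mul]
        rw [Set.mem_preimage, e]
        exact K.mul_mem ha hb
      zero_mem' := by
        rw [Set.mem_preimage, X.U_zero, map_one]
        exact K.one_mem }
  have hl0 : ∀ k : ℕ, cls0z.getD k 0 ∈ φ := by
    intro k
    by_cases hk : k < cls0z.length
    · rw [List.getD_eq_getElem _ _ hk]
      have hm : cls0z[k] ∈ ((cl (0 : Fin 3)).map fun e : P9 × ℕ × ℕ => e.1) ++ [0] :=
        List.getElem_mem hk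
      rcases List.mem_append.1 hm with h | h
      · exact Subgroup.subset_closure (X.O_zero_mem h)
      · rw [List.mem_singleton.1 h]; exact φ.zero_mem
    · rw [List.getD_eq_default _ _ (Nat.le_of_not_lt hk)]; exact φ.zero_mem
  have hu : ∀ i : Fin 9, unit9.getD i 0 ∈ φ := fun i => by
    rw [units9_ok i]
    exact add_mem (add_mem (hl0 _) (hl0 _)) (hl0 _)
  rintro _ ⟨_, ⟨p, rfl⟩, rfl⟩
  show p ∈ φ
  rw [split9 p]
  exact add_mem (add_mem (add_mem
    (add_mem (add_mem (nsmul_mem (hu 0) _) (nsmul_mem (hu 1) _)) (nsmul_mem (hu 2) _))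
    (add_mem (nsmul_mem (hu 3) _) (nsmul_mem (hu 4) _)))
    (add_mem (nsmul_mem (hu 5) _) (nsmul_mem (hu 6) _)))
    (add_mem (nsmul_mem (hu 7) _) (nsmul_mem (hu 8) _))

theorem O_zero_moved (t : U3) (h : 4 ∣ (((cl (0 : Fin 3)).map fun e : P9 × ℕ × ℕ => e.1).filter fun p =>
    act (hM t) (herm p) != herm p).length) :
    4 ∣ {r | r ∈ X.O 0 ∧ X.π (X.L t) * r * (X.π (X.L t))⁻¹ ≠ r}.ncard := by
  classical
  have key : ∀ p : P9, X.π (X.L t) * X.π (X.U p) * (X.π (X.L t))⁻¹ = X.π (X.U p) ↔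
      act (hM t) (herm p) = herm p := by
    intro p
    obtain ⟨q, hq, e⟩ := X.L_conj t p
    rw [← map_inv, ← map_mul, ← map_mul, e, mul_inv_cancel_right, ← hq]
    exact ⟨fun h => by rw [X.πU_injective h], fun h => by rw [herm_inj h]⟩
  have he : {r | r ∈ X.O 0 ∧ X.π (X.L t) * r * (X.π (X.L t))⁻¹ ≠ r} =
      (fun p => X.π (X.U p)) '' {p | p ∈ (((cl (0 : Fin 3)).map fun e : P9 × ℕ × ℕ => e.1).filter fun p =>
        act (hM t) (herm p) != herm p)} := by
    ext r
    constructor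
    · rintro ⟨⟨p, hp, rfl⟩, hne⟩
      exact ⟨p, List.mem_filter.2 ⟨hp, bne_iff_ne.2 fun h' => hne ((key p).2 h')⟩, rfl⟩
    · rintro ⟨p, hp, rfl⟩
      obtain ⟨hp1, hp2⟩ := List.mem_filter.1 hp
      exact ⟨⟨p, hp1, rfl⟩, fun h' => bne_iff_ne.1 hp2 ((key p).1 h')⟩
  rw [he, Set.ncard_image_of_injective _ X.πU_injective]
  generalize hm : (((cl (0 : Fin 3)).map fun e : P9 × ℕ × ℕ => e.1).filter fun p =>
      act (hM t) (herm p) != herm p) = m at h ⊢
  have hnd : m.Nodup := hm ▸ (cl_nodup 0).filter _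
  rwa [show {p | p ∈ m} = (m.toFinset : Set P9) by ext; simp, Set.ncard_coe_finset,
    List.toFinset_card_of_nodup hnd]

/-- The facts hold in the model. -/
theorem facts : Facts X.card X.data where
  vec := by
    rintro _ ⟨p, hp, rfl⟩
    obtain ⟨g, -, eg⟩ := X.orbit hp
    obtain ⟨x, hx, hx0, e⟩ := X.U_root_vec
    have hgx : Cfsg.hermForm 6 F 2 (mat g *ᵥ x) (mat g *ᵥ x) = 0 := by rw [SU_H, hx]
    refine ⟨mat g *ᵥ x, hgx, mat_mulVec_ne_zero g hx0, ?_⟩
    show X.π (X.U p) = _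
    rw [← eg, e, tr_conj X.card g hx hgx rfl]
    rfl
  gen := X.O_zero_gen
  even := by
    rintro b (⟨_, ⟨a, rfl⟩, rfl⟩ | ⟨_, ⟨⟨b, c⟩, rfl⟩, rfl⟩)
    · exact X.O_zero_moved (a, o, o) (moved_left a)
    · exact X.O_zero_moved (o, b, c) (moved_right b c)

end Setup

/-- The facts on `PSU(6, 2)`. -/
theorem exists_data_facts {F : Type*} [Field F] [Fintype F] (hF : Fintype.card F = 2 ^ 2) :
    ∃ D : Data (Cfsg.PSU 6 F 2), Facts hF D := by
  obtain ⟨ω, -, hω, h2⟩ := exists_zeta hF (q := 2) rfl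
  exact ⟨_, (⟨ω, hF, hω, h2⟩ : Setup F).facts⟩

end Model

end Cfsg.Agent.ThreeTransp.U62Cover
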