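import Cfsg.Agent.Lib.ThreeTransp.Factor.UnitarySix

/-!
Products of transvections with orthogonal centres in `PSU(6, 2)`.
-/

set_option autoImplicit false
set_option linter.unusedSectionVars false

namespace Cfsg.Agent.ThreeTransp.U62Class.Linear

open Matrix Cfsg.Agent.Classical.Unitary
open Cfsg.Agent.GroupStructure3.ThreeTransUnitary
open Cfsg.Agent.ThreeTransp.Factor

variable {F : Type*} [Field F] [Fintype F] (hF : Fintype.card F = 2 ^ 2)

local notation "H" => Cfsg.hermForm 6 F 2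
local notation "Vec" => (Fin 6 → F)

include hF

/-- The image of a transvection. -/
noncomputable def P {v : Vec} (hv : H v v = 0) : Cfsg.PSU 6 F 2 :=
  QuotientGroup.mk' (Subgroup.center (Cfsg.SU 6 F 2)) (tr hF hv)

theorem prop_of_tr_eq {u v : Vec} (hu : H u u = 0) (hv : H v v = 0) (hu0 : u ≠ 0)
    (h : tr hF hu = tr hF hv) : ∃ c : F, u = c • v := by
  obtain ⟨x, hx⟩ : ∃ x, H x u ≠ 0 := by
    by_contra hc
    push Not at hc
    exact hu0 (eq_zero_of_H hF fun y => (H_eq_zero_comm hF).1 (hc y))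
  have e := congrArg (fun g => mat g *ᵥ x) h
  simp only [tr_mulVec, add_right_inj] at e
  refine ⟨(H x u)⁻¹ * H x v, ?_⟩
  rw [← smul_smul, ← e, smul_smul, inv_mul_cancel₀ hx, one_smul]

theorem P_ne_one {v : Vec} (hv : H v v = 0) (hv0 : v ≠ 0) : P hF hv ≠ 1 := by
  intro h
  exact tr_ne_one hF hv hv0
    (UnitarySix.center_eq_one_of_sq hF ((QuotientGroup.eq_one_iff _).1 h) (tr_sq hF hv))

theorem P_sq {v : Vec} (hv : H v v = 0) : P hF hv * P hF hv = 1 := by
  rw [P, ← map_mul, tr_sq, map_one]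

theorem P_eq_of_prop {u v : Vec} (hu : H u u = 0) (hv : H v v = 0) (hu0 : u ≠ 0) {c : F}
    (h : u = c • v) : P hF hu = P hF hv :=
  congrArg _ (UnitarySix.tr_eq_of_smul hF hv hu hu0 h)

theorem P_commute_iff {u v : Vec} (hu : H u u = 0) (hv : H v v = 0) (hu0 : u ≠ 0) (hv0 : v ≠ 0) :
    Commute (P hF hu) (P hF hv) ↔ H u v = 0 :=
  ⟨UnitarySix.tr_comm_of_mk hF hu hv hu0 hv0,
    fun h => ((UnitaryPoints.tr_commute_iff hF hu hv hu0 hv0).2 h).map _⟩

theorem P_braid {u v : Vec} (hu : H u u = 0) (hv : H v v = 0)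
    (h : ¬ Commute (P hF hu) (P hF hv)) :
    P hF hu * P hF hv * P hF hu = P hF hv * P hF hu * P hF hv := by
  rcases product_order hF hu hv with h2 | h3
  · refine absurd ?_ h
    exact ((Basic.sq_prod_eq_one_iff (tr_sq hF hu) (tr_sq hF hv)).1 h2).map _
  · rw [P, P, ← map_mul, ← map_mul, ← map_mul, ← map_mul]
    exact congrArg _ (Basic.braid_of_cube (tr_sq hF hu) (tr_sq hF hv) h3)

theorem eq_of_mk_sq {a b : Cfsg.SU 6 F 2} (ha : a * a = 1) (hb : b * b = 1)
    (h : QuotientGroup.mk' (Subgroup.center (Cfsg.SU 6 F 2)) a = QuotientGroup.mk' _ b) : a = b := by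
  have hz : a⁻¹ * b ∈ Subgroup.center (Cfsg.SU 6 F 2) := QuotientGroup.eq.1 h
  have hc : Commute a (a⁻¹ * b) := Subgroup.mem_center_iff.1 hz a
  have hb' : b = a * (a⁻¹ * b) := by rw [mul_inv_cancel_left]
  refine inv_mul_eq_one.1 (UnitarySix.center_eq_one_of_sq hF hz ?_)
  have : b * b = a * a * (a⁻¹ * b * (a⁻¹ * b)) := by
    nth_rewrite 1 [hb']
    nth_rewrite 2 [hb']
    rw [hc.symm.mul_mul_mul_comm]
  rw [hb, ha, one_mul] at this
  exact this.symm

/-- Two products of orthogonal pairs. -/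
theorem pair_eq {u v a b : Vec} (hu : H u u = 0) (hv : H v v = 0) (ha : H a a = 0)
    (hb : H b b = 0) (hu0 : u ≠ 0) (hv0 : v ≠ 0) (ha0 : a ≠ 0) (hb0 : b ≠ 0)
    (huv : H u v = 0) (hab : H a b = 0) (hne : P hF hu ≠ P hF hv) (hne' : P hF ha ≠ P hF hb)
    (h : P hF hu * P hF hv = P hF ha * P hF hb) :
    (P hF ha = P hF hu ∧ P hF hb = P hF hv) ∨ (P hF ha = P hF hv ∧ P hF hb = P hF hu) := by
  have huv' : P hF hu * P hF hv = P hF hv * P hF hu :=
    ((P_commute_iff hF hu hv hu0 hv0).2 huv).eq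
  have hab' : P hF ha * P hF hb = P hF hb * P hF ha :=
    ((P_commute_iff hF ha hb ha0 hb0).2 hab).eq
  by_cases e1 : P hF ha = P hF hu
  · exact Or.inl ⟨e1, (mul_left_cancel (h.trans (by rw [e1]))).symm⟩
  by_cases e2 : P hF ha = P hF hv
  · exact Or.inr ⟨e2, (mul_left_cancel ((huv'.symm.trans h).trans (by rw [e2]))).symm⟩
  by_cases e3 : P hF hb = P hF hu
  · exact absurd (mul_left_cancel ((h.trans hab').trans (by rw [e3]))).symm e2
  by_cases e4 : P hF hb = P hF hv
  · exact absurd (mul_left_cancel (((huv'.symm.trans h).trans hab').trans (by rw [e4]))).symm e1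
  exfalso
  have hli : ∀ {x y : Vec} (hx : H x x = 0) (hy : H y y = 0), y ≠ 0 → P hF hy ≠ P hF hx →
      ∀ c : F, y ≠ c • x := fun hx hy hy0 hn c e => hn (P_eq_of_prop hF hy hx hy0 e)
  have hsu : tr hF hu * tr hF hv = tr hF ha * tr hF hb := by
    refine eq_of_mk_sq hF ?_ ?_ h
    · rw [((UnitaryPoints.tr_commute_iff hF hu hv hu0 hv0).2 huv).symm.mul_mul_mul_comm,
        tr_sq, tr_sq, one_mul]
    · rw [((UnitaryPoints.tr_commute_iff hF ha hb ha0 hb0).2 hab).symm.mul_mul_mul_comm,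
        tr_sq, tr_sq, one_mul]
  refine UnitarySix.no_relation hF [⟨u, hu⟩, ⟨v, hv⟩, ⟨a, ha⟩, ⟨b, hb⟩] (by simp) (by simp)
    ?_ ?_ ?_
  · simp [hu0, hv0, ha0, hb0]
  · simp only [List.pairwise_cons, List.mem_cons, List.not_mem_nil, or_false, forall_eq_or_imp,
      forall_eq, IsEmpty.forall_iff, implies_true, List.Pairwise.nil, and_true]
    exact ⟨⟨hli hu hv hv0 (Ne.symm hne), hli hu ha ha0 e1, hli hu hb hb0 e3⟩,
      ⟨hli hv ha ha0 e2, hli hv hb hb0 e4⟩, hli ha hb hb0 (Ne.symm hne')⟩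
  · intro x
    have e := congrArg (fun g => mat g *ᵥ x) hsu
    simp only [mul_mulVec, tr_mulVec, H_add_left, H_smul_left, (H_eq_zero_comm hF).1 huv,
      (H_eq_zero_comm hF).1 hab, mul_zero, add_zero] at e
    simp only [List.map_cons, List.map_nil, List.sum_cons, List.sum_nil, add_zero]
    linear_combination (norm := skip) e
    match_scalars <;> simp [two_zero hF] <;> (ring_nf; simp [two_zero hF])

/-- A product of an orthogonal pair is not a transvection. -/
theorem pair_ne {u v a : Vec} (hu : H u u = 0) (hv : H v v = 0) (ha : H a a = 0)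
    (hu0 : u ≠ 0) (hv0 : v ≠ 0) (ha0 : a ≠ 0) (huv : H u v = 0)
    (hne : P hF hu ≠ P hF hv) : P hF hu * P hF hv ≠ P hF ha := by
  intro h
  by_cases e1 : P hF ha = P hF hu
  · rw [e1, mul_eq_left] at h
    exact P_ne_one hF hv hv0 h
  by_cases e2 : P hF ha = P hF hv
  · rw [e2, mul_eq_right] at h
    exact P_ne_one hF hu hu0 h
  have hli : ∀ {x y : Vec} (hx : H x x = 0) (hy : H y y = 0), y ≠ 0 → P hF hy ≠ P hF hx →
      ∀ c : F, y ≠ c • x := fun hx hy hy0 hn c e => hn (P_eq_of_prop hF hy hx hy0 e)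
  have hsu : tr hF hu * tr hF hv = tr hF ha := by
    refine eq_of_mk_sq hF ?_ (tr_sq hF ha) h
    rw [((UnitaryPoints.tr_commute_iff hF hu hv hu0 hv0).2 huv).symm.mul_mul_mul_comm,
      tr_sq, tr_sq, one_mul]
  refine UnitarySix.no_relation hF [⟨u, hu⟩, ⟨v, hv⟩, ⟨a, ha⟩] (by simp) (by simp) ?_ ?_ ?_
  · simp [hu0, hv0, ha0]
  · simp only [List.pairwise_cons, List.mem_cons, List.not_mem_nil, or_false, forall_eq_or_imp,
      forall_eq, IsEmpty.forall_iff, implies_true, List.Pairwise.nil, and_true]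
    exact ⟨⟨hli hu hv hv0 (Ne.symm hne), hli hu ha ha0 e1⟩, hli hv ha ha0 e2⟩
  · intro x
    have e := congrArg (fun g => mat g *ᵥ x) hsu
    simp only [mul_mulVec, tr_mulVec, H_add_left, H_smul_left, (H_eq_zero_comm hF).1 huv,
      mul_zero, add_zero] at e
    simp only [List.map_cons, List.map_nil, List.sum_cons, List.sum_nil, add_zero]
    linear_combination (norm := skip) e
    match_scalars <;> simp [two_zero hF] <;> (ring_nf; simp [two_zero hF])

/-- A product of three orthogonal transvections moving a point to an orthogonal one fixes it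
against one of the three. -/
theorem triple_swap {p q r y z : Vec} (hp : H p p = 0) (hq : H q q = 0) (hr : H r r = 0)
    (hy : H y y = 0) (hz : H z z = 0) (hy0 : y ≠ 0)
    (hpq : H p q = 0) (hpr : H p r = 0) (hqr : H q r = 0) (hyz : H y z = 0)
    (h : P hF hp * P hF hq * P hF hr * P hF hy =
      P hF hz * (P hF hp * P hF hq * P hF hr)) :
    H y p = 0 ∨ H y q = 0 ∨ H y r = 0 := by
  by_contra hcon
  push Not at hcon
  obtain ⟨g, hg⟩ : ∃ g, g = tr hF hp * tr hF hq * tr hF hr := ⟨_, rfl⟩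
  have hgy : H (mat g *ᵥ y) (mat g *ᵥ y) = 0 := by rw [SU_H, hy]
  have hmk : P hF hgy = P hF hz := by
    refine mul_right_cancel (b := P hF hp * P hF hq * P hF hr) (Eq.trans ?_ h)
    rw [P, ← tr_conj hF g hy hgy rfl, hg, P, P, P, P, map_mul, map_mul, map_inv, map_mul, map_mul]
    group
  obtain ⟨c, hc⟩ := prop_of_tr_eq hF hgy hz (mat_mulVec_ne_zero g hy0)
    (UnitarySix.tr_eq_of_mk hF hgy hz hmk)
  have e : H y (mat g *ᵥ y) = 0 := by rw [hc, H_smul_right, hyz, mul_zero]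
  rw [hg, mul_mulVec, mul_mulVec] at e
  simp only [tr_mulVec, H_add_left, H_smul_left, H_add_right hF, H_smul_right, hy,
    (H_eq_zero_comm hF).1 hpq, (H_eq_zero_comm hF).1 hpr, (H_eq_zero_comm hF).1 hqr, mul_zero,
    add_zero, zero_add] at e
  have h1 := cube hF hcon.1
  have h2 := cube hF hcon.2.1
  have h3 := cube hF hcon.2.2
  exact one_ne_zero (α := F) (by linear_combination e - h1 - h2 - h3 - two_zero hF)

end Cfsg.Agent.ThreeTransp.U62Class.Linear
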