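import Cfsg.Agent.Lib.ThreeTransp.U62Cover.Main
import Cfsg.Agent.Lib.ThreeTransp.U62Class.Facts
import Cfsg.Agent.Lib.ThreeTransp.U62Class.Linear
import Cfsg.Agent.Lib.ThreeTransp.Classes

/-!
A class of involutions with centraliser a non-split double cover of `PSU(6, 2)`: the members inside
the centraliser and inside the preimage of the large elementary abelian subgroup.
-/

set_option autoImplicit false
set_option linter.unusedSectionVars false
set_option linter.style.haveILetI false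

namespace Cfsg.Agent.ThreeTransp.U62Class

open Matrix Cfsg.Agent.Classical.Unitary
open Cfsg.Agent.GroupStructure3.ThreeTransUnitary (tr tr_conj)

/-- The standing hypotheses. -/
structure Ctx (G : Type*) [Group G] [Finite G] (F : Type*) [Field F] [Fintype F] where
  hF : Fintype.card F = 2 ^ 2
  /-- the centraliser -/
  C : Subgroup G
  /-- the cover -/
  X : U62Cover.Cover C (Cfsg.PSU 6 F 2)
  /-- the number of conjugates in the elementary abelian subgroup -/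
  n22 : X.Ω.ncard = 22
  /-- the involution lies in the span of the commutators and the other conjugates -/
  dd_gen : X.dd ∈ commutator ↥C ⊔ Subgroup.closure {c : ↥C | X.P c ∧ c ≠ X.dd}
  facts : U62Cover.Facts hF X.D

variable {G F : Type*} [Group G] [Finite G] [Field F] [Fintype F] (K : Ctx G F)

namespace Ctx

local notation "H" => Cfsg.hermForm 6 F 2

/-- The involution. -/
abbrev d : G := K.X.d

/-- Its class. -/
def cls : Set G := conjugatesOf K.d

/-- The large elementary abelian subgroup. -/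
abbrev A : Subgroup G := K.X.A

/-- The members inside it. -/
def L : Set G := {x | x ∈ K.A ∧ x ∈ K.cls}

/-- The projection on the underlying group, with junk value outside the centraliser. -/
noncomputable def img (x : G) : Cfsg.PSU 6 F 2 :=
  haveI := Classical.propDecidable (x ∈ K.C)
  if h : x ∈ K.C then K.X.f ⟨x, h⟩ else 1

theorem img_eq {x : G} (h : x ∈ K.C) : K.img x = K.X.f ⟨x, h⟩ := dif_pos h

theorem img_mul {x y : G} (hx : x ∈ K.C) (hy : y ∈ K.C) : K.img (x * y) = K.img x * K.img y := by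
  rw [K.img_eq hx, K.img_eq hy, K.img_eq (mul_mem hx hy), ← map_mul]
  rfl

theorem img_inv {x : G} (hx : x ∈ K.C) : K.img x⁻¹ = (K.img x)⁻¹ := by
  rw [K.img_eq hx, K.img_eq (inv_mem hx), ← map_inv]
  rfl

theorem mem_C {x : G} : x ∈ K.C ↔ Commute x K.d := K.X.mem x

theorem d_mem_cls : K.d ∈ K.cls := mem_conjugatesOf_self

theorem conj_mem {x : G} (g : G) (hx : x ∈ K.cls) : g * x * g⁻¹ ∈ K.cls :=
  IsConj.trans hx (isConj_iff.2 ⟨g, rfl⟩)

theorem conj_iff {x : G} (g : G) : g * x * g⁻¹ ∈ K.cls ↔ x ∈ K.cls :=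
  ⟨fun h => by simpa [mul_assoc] using K.conj_mem g⁻¹ h, K.conj_mem g⟩

theorem exists_to_d {x : G} (hx : x ∈ K.cls) : ∃ g : G, g * x * g⁻¹ = K.d := by
  obtain ⟨g, rfl⟩ := isConj_iff.1 hx
  exact ⟨g⁻¹, by group⟩

theorem orderOf_mem {x : G} (hx : x ∈ K.cls) : orderOf x = 2 := by
  obtain ⟨g, rfl⟩ := isConj_iff.1 hx
  rw [show g * K.d * g⁻¹ = MulAut.conj g K.d from rfl, MulEquiv.orderOf_eq]
  exact orderOf_eq_prime (by rw [pow_two]; exact K.X.d_sq) K.X.d_ne

theorem sq {x : G} (hx : x ∈ K.cls) : x * x = 1 :=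
  Basic.mul_self_of_orderOf_two (K.orderOf_mem hx)

theorem inv {x : G} (hx : x ∈ K.cls) : x⁻¹ = x := inv_eq_of_mul_eq_one_right (K.sq hx)

theorem ne_one {x : G} (hx : x ∈ K.cls) : x ≠ 1 := Basic.ne_one_of_orderOf_two (K.orderOf_mem hx)

theorem L_eq : K.L = K.X.Ω := rfl

theorem d_mem_L : K.d ∈ K.L := ⟨K.X.d_mem_A, K.d_mem_cls⟩

theorem ncard_L : K.L.ncard = 22 := K.n22

theorem L_commute {x y : G} (hx : x ∈ K.L) (hy : y ∈ K.L) : Commute x y := K.X.comm_A hx.1 hy.1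

theorem L_mem_C {x : G} (hx : x ∈ K.L) : x ∈ K.C := K.X.A_le hx.1

theorem mult_values : (K.X.M 0).ncard = 21 ∧ (K.X.M 1).ncard = 0 ∧ (K.X.M 2).ncard = 0 := by
  have hn := K.X.Ω_ncard
  rw [← K.L_eq, K.ncard_L] at hn
  have c0 : U62Cover.classSize 0 = 21 := rfl
  have c1 : U62Cover.classSize 1 = 210 := rfl
  have c2 : U62Cover.classSize 2 = 280 := rfl
  rcases K.X.mult 0 with ⟨-, h0⟩ | ⟨-, h0⟩ | ⟨-, h0⟩ <;>
    rcases K.X.mult 1 with ⟨-, h1⟩ | ⟨-, h1⟩ | ⟨-, h1⟩ <;>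
      rcases K.X.mult 2 with ⟨-, h2⟩ | ⟨-, h2⟩ | ⟨-, h2⟩ <;>
        rw [h0, h1, h2] at hn <;> omega

/-- Over the class of 21 exactly one lift is a member. -/
theorem lift_iff {c : ↥K.C} (hc : K.X.f c ∈ K.X.D.O 0) :
    K.X.P (c * K.X.dd) ↔ ¬ K.X.P c := by
  have h0 := K.mult_values.1
  have c0 : U62Cover.classSize 0 = 21 := rfl
  rcases K.X.mult 0 with ⟨-, h⟩ | ⟨h, -⟩ | ⟨-, h⟩
  · omega
  · exact h c hc
  · omega

theorem class_zero {c : ↥K.C} (hE : K.X.f c ∈ K.X.D.E) (h1 : K.X.f c ≠ 1) (hP : K.X.P c) :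
    K.X.f c ∈ K.X.D.O 0 := by
  obtain ⟨i, hi⟩ := K.X.D.O_cover _ hE h1
  have hne : ∀ j, c ∈ K.X.M j → (K.X.M j).ncard ≠ 0 := fun j hj h =>
    absurd hj (by rw [(Set.ncard_eq_zero (Set.toFinite _)).1 h]; exact Set.notMem_empty c)
  fin_cases i
  · exact hi
  · exact absurd K.mult_values.2.1 (hne _ ⟨hi, hP⟩)
  · exact absurd K.mult_values.2.2 (hne _ ⟨hi, hP⟩)

theorem img_d : K.img K.d = 1 := by
  rw [K.img_eq K.X.d_mem]
  exact K.X.f_dd

theorem img_eq_one {x : G} (hx : x ∈ K.C) (hm : x ∈ K.cls) (h : K.img x = 1) : x = K.d := by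
  rw [K.img_eq hx] at h
  rcases (K.X.ker _).1 h with h1 | h1
  · exact absurd (congrArg Subtype.val h1) (K.ne_one hm)
  · exact h1

/-- A member commuting with `d`, other than `d`, lies over a transvection of the class of 21 up to
conjugation. -/
theorem exists_into {x : G} (hx : x ∈ K.C) (hm : x ∈ K.cls) (hne : x ≠ K.d) :
    ∃ t : ↥K.C, (t : G) * x * (t : G)⁻¹ ∈ K.L ∧
      K.X.f (t * ⟨x, hx⟩ * t⁻¹) ∈ K.X.D.O 0 := by
  obtain ⟨q, hq⟩ := K.X.D.conj_into (K.X.f ⟨x, hx⟩) (by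
    rw [← map_mul, show (⟨x, hx⟩ : ↥K.C) * ⟨x, hx⟩ = 1 from Subtype.ext (K.sq hm), map_one])
  obtain ⟨t, rfl⟩ := K.X.surj q
  have hE : K.X.f (t * ⟨x, hx⟩ * t⁻¹) ∈ K.X.D.E := by rwa [map_mul, map_mul, map_inv]
  have hP : K.X.P (t * ⟨x, hx⟩ * t⁻¹) := (K.X.P_conj t _).2 hm
  refine ⟨t, K.X.coe_mem_Ω.2 ⟨hE, hP⟩, K.class_zero hE (fun h => hne ?_) hP⟩
  rw [map_mul, map_mul, map_inv, conj_eq_one_iff] at h
  exact K.img_eq_one hx hm (by rwa [K.img_eq hx])

theorem exists_vec {x : G} (hx : x ∈ K.C) (hm : x ∈ K.cls) (hne : x ≠ K.d) :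
    ∃ (v : Fin 6 → F) (hv : H v v = 0), v ≠ 0 ∧ K.img x = Linear.P K.hF hv := by
  obtain ⟨t, -, ht⟩ := K.exists_into hx hm hne
  obtain ⟨w, hw, hw0, e⟩ := K.facts.vec _ ht
  obtain ⟨k, hk⟩ := QuotientGroup.mk'_surjective _ (K.X.f t)⁻¹
  have hkw : H (mat k *ᵥ w) (mat k *ᵥ w) = 0 := by rw [SU_H, hw]
  refine ⟨mat k *ᵥ w, hkw, mat_mulVec_ne_zero k hw0, ?_⟩
  rw [K.img_eq hx, Linear.P, ← tr_conj K.hF k hw hkw rfl, map_mul, map_mul, map_inv, hk, inv_inv,
    ← e, map_mul, map_mul, map_inv]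
  group

/-- Members commuting with `d` are determined by their images. -/
theorem img_inj {x y : G} (hx : x ∈ K.C) (hxm : x ∈ K.cls) (hy : y ∈ K.C) (hym : y ∈ K.cls)
    (h : K.img x = K.img y) : x = y := by
  by_cases hd : x = K.d
  · subst hd
    exact (K.img_eq_one hy hym (h.symm.trans K.img_d)).symm
  obtain ⟨t, -, ht⟩ := K.exists_into hx hxm hd
  rw [K.img_eq hx, K.img_eq hy] at h
  rcases K.X.eq_of_f h with e | e
  · exact (congrArg Subtype.val e).symm
  exfalso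
  refine (K.lift_iff ht).1 ?_ ((K.X.P_conj t _).2 hxm)
  have e2 : t * ⟨x, hx⟩ * t⁻¹ * K.X.dd = t * (⟨x, hx⟩ * K.X.dd) * t⁻¹ := by
    calc t * ⟨x, hx⟩ * t⁻¹ * K.X.dd = t * ⟨x, hx⟩ * (t⁻¹ * K.X.dd) := by group
      _ = t * ⟨x, hx⟩ * (K.X.dd * t⁻¹) := by rw [K.X.dd_central]
      _ = _ := by group
  rw [e2, K.X.P_conj, ← e]
  exact hym

theorem commute_iff {x y : G} (hx : x ∈ K.C) (hxm : x ∈ K.cls) (hy : y ∈ K.C) :
    y ∈ K.cls → (Commute x y ↔ Commute (K.img x) (K.img y)) := by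
  intro hym
  constructor
  · intro h
    show K.img x * K.img y = K.img y * K.img x
    rw [← K.img_mul hx hy, ← K.img_mul hy hx, h.eq]
  · intro h
    have e : x * y * x⁻¹ = y := by
      refine K.img_inj (mul_mem (mul_mem hx hy) (inv_mem hx)) (K.conj_mem x hym) hy hym ?_
      rw [K.img_mul (mul_mem hx hy) (inv_mem hx), K.img_mul hx hy, K.img_inv hx, h.eq,
        mul_inv_cancel_right]
    exact mul_inv_eq_iff_eq_mul.1 e

theorem braid {x y : G} (hx : x ∈ K.C) (hxm : x ∈ K.cls) (hy : y ∈ K.C) (hym : y ∈ K.cls)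
    (h : ¬ Commute x y) : x * y * x = y * x * y := by
  have hne : x ≠ K.d := fun e => h (e ▸ ((K.mem_C).1 hy).symm)
  have hne' : y ≠ K.d := fun e => h (e ▸ (K.mem_C).1 hx)
  obtain ⟨u, hu, -, eu⟩ := K.exists_vec hx hxm hne
  obtain ⟨v, hv, -, ev⟩ := K.exists_vec hy hym hne'
  have hc : ¬ Commute (Linear.P K.hF hu) (Linear.P K.hF hv) := fun h' => h
    ((K.commute_iff hx hxm hy hym).2 (by rwa [eu, ev]))
  refine K.img_inj (mul_mem (mul_mem hx hy) hx) ?_ (mul_mem (mul_mem hy hx) hy) ?_ ?_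
  · simpa [K.inv hxm] using K.conj_mem x hym
  · simpa [K.inv hym] using K.conj_mem y hxm
  · rw [K.img_mul (mul_mem hx hy) hx, K.img_mul hx hy, K.img_mul (mul_mem hy hx) hy,
      K.img_mul hy hx, eu, ev, Linear.P_braid K.hF hu hv hc]

theorem img_mem_O {x : G} (hx : x ∈ K.L) (hne : x ≠ K.d) : K.img x ∈ K.X.D.O 0 := by
  obtain ⟨hxC, hE⟩ := K.X.mem_A.1 hx.1
  rw [K.img_eq hxC]
  exact K.class_zero hE (fun h => hne (K.img_eq_one hxC hx.2 (by rwa [K.img_eq hxC]))) hx.2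

theorem exists_of_O {r : Cfsg.PSU 6 F 2} (hr : r ∈ K.X.D.O 0) :
    ∃ x ∈ K.L, x ≠ K.d ∧ K.img x = r := by
  obtain ⟨c, rfl⟩ := K.X.surj r
  obtain ⟨c', hc', hP⟩ : ∃ c', K.X.f c' = K.X.f c ∧ K.X.P c' := by
    by_cases h : K.X.P c
    · exact ⟨c, rfl, h⟩
    · exact ⟨c * K.X.dd, by rw [map_mul, K.X.f_dd, mul_one], (K.lift_iff hr).2 h⟩
  refine ⟨c', K.X.coe_mem_Ω.2 ⟨hc' ▸ (K.X.D.O_sub _ _ hr).1, hP⟩, fun e => ?_, ?_⟩
  · refine (K.X.D.O_sub _ _ hr).2 ?_
    rw [← hc', show c' = K.X.dd from Subtype.ext e]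
    exact K.X.f_dd
  · rw [K.img_eq c'.2]
    exact hc'

/-- The members generate the subgroup. -/
theorem closure_L : Subgroup.closure K.L = K.A := by
  refine le_antisymm ((Subgroup.closure_le _).2 fun x hx => hx.1) fun a ha => ?_
  obtain ⟨haC, hE⟩ := K.X.mem_A.1 ha
  have hle : K.X.D.E ≤ ((Subgroup.closure K.L).subgroupOf K.C).map K.X.f := by
    refine K.facts.gen.trans ((Subgroup.closure_le _).2 fun r hr => ?_)
    obtain ⟨x, hx, -, e⟩ := K.exists_of_O hr
    exact ⟨⟨x, K.L_mem_C hx⟩, Subgroup.mem_subgroupOf.2 (Subgroup.subset_closure hx),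
      by rw [← K.img_eq, e]⟩
  obtain ⟨b, hb, e⟩ := hle hE
  rw [SetLike.mem_coe, Subgroup.mem_subgroupOf] at hb
  rcases K.X.eq_of_f e with h | h
  · have : a = (b : G) := congrArg Subtype.val h
    exact this ▸ hb
  · have : a = (b : G) * K.d := congrArg Subtype.val h
    exact this ▸ mul_mem hb (Subgroup.subset_closure K.d_mem_L)

theorem mem_normalizer_of {g : G} (h : ∀ x ∈ K.L, g * x * g⁻¹ ∈ K.A) :
    g ∈ Subgroup.normalizer (K.A : Set G) := by
  have hle : K.A.map (MulAut.conj g).toMonoidHom ≤ K.A := by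
    rw [Subgroup.map_le_iff_le_comap]
    calc K.A = Subgroup.closure K.L := K.closure_L.symm
      _ ≤ _ := (Subgroup.closure_le _).2 fun x hx => h x hx
  have heq := Subgroup.eq_of_le_of_card_ge hle
    (by rw [Subgroup.card_map_of_injective (MulAut.conj g).injective])
  refine Subgroup.mem_normalizer_iff.2 fun a => ⟨fun ha => hle ⟨a, ha, rfl⟩, fun ha => ?_⟩
  obtain ⟨b, hb, e⟩ : g * a * g⁻¹ ∈ K.A.map (MulAut.conj g).toMonoidHom := by rw [heq]; exact ha
  have : b = a := (MulAut.conj g).injective e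
  exact this ▸ hb

theorem conj_L {g : G} (hg : g ∈ Subgroup.normalizer (K.A : Set G)) (x : G) :
    g * x * g⁻¹ ∈ K.L ↔ x ∈ K.L := K.X.conj_Ω hg x

/-- Elementary abelian 2-subgroups of the centraliser have order at most `2 ^ 10`. -/
theorem card_le {B : Subgroup G} (hB : B ≤ K.C) (hsq : ∀ x ∈ B, x * x = 1) :
    Nat.card ↥B ≤ 2 ^ 10 := by
  by_contra hlt
  push Not at hlt
  haveI : Fact (Nat.Prime 2) := ⟨Nat.prime_two⟩
  have hsq' : ∀ x ∈ B.subgroupOf K.C, x * x = 1 := fun x hx =>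
    Subtype.ext (hsq _ (Subgroup.mem_subgroupOf.1 hx))
  have hp : IsPGroup 2 ↥(B.subgroupOf K.C) := fun x => ⟨1, by
    rw [pow_one, pow_two]; exact Subtype.ext (hsq' _ x.2)⟩
  have hcard : Nat.card ↥(B.subgroupOf K.C) = Nat.card ↥B :=
    Nat.card_congr (Subgroup.subgroupOfEquivOfLe hB).toEquiv
  obtain ⟨S, hS⟩ := hp.exists_le_sylow
  obtain ⟨c, hc⟩ := K.X.exists_sylow S
  have h := K.X.max_conj (hc ▸ hS) hsq' (hcard ▸ hlt.le)
  rw [h, Subgroup.card_map_of_injective (MulAut.conj c).injective, U62Cover.Cover.A₀,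
    K.X.card_comap, K.X.D.E_card] at hcard
  omega

/-- The subgroup is its own centraliser among members. -/
theorem mem_L_of_centralizes {x : G} (hm : x ∈ K.cls) (h : ∀ y ∈ K.L, Commute x y) : x ∈ K.L := by
  refine ⟨?_, hm⟩
  by_contra hx
  have hxC : x ∈ K.C := K.mem_C.2 (h _ K.d_mem_L)
  set B := Subgroup.closure (insert x K.L) with hB
  have hcomm : ∀ a ∈ insert x K.L, ∀ b ∈ insert x K.L, a * b = b * a := by
    rintro a (rfl | ha) b (rfl | hb)
    exacts [rfl, (h b hb).eq, (h a ha).eq.symm, (K.L_commute ha hb).eq]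
  have hBC : B ≤ K.C := (Subgroup.closure_le _).2 (by
    rintro a (rfl | ha)
    exacts [hxC, K.L_mem_C ha])
  have hc2 := Subgroup.isMulCommutative_closure hcomm
  have hsq : ∀ a ∈ B, a * a = 1 := by
    intro a ha
    induction ha using Subgroup.closure_induction with
    | mem a ha => rcases ha with rfl | ha; exacts [K.sq hm, K.sq ha.2]
    | one => rw [one_mul]
    | mul a b ha hb iha ihb =>
      have : a * b = b * a := congrArg Subtype.val (hc2.is_comm.comm ⟨a, ha⟩ ⟨b, hb⟩)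
      rw [(show Commute b a from this.symm).mul_mul_mul_comm, iha, ihb, one_mul]
    | inv a _ iha => rw [← _root_.mul_inv_rev, iha, inv_one]
  have hlt : K.A < B := lt_of_le_of_ne
    (K.closure_L ▸ Subgroup.closure_mono (Set.subset_insert _ _))
    (fun e => hx (e ▸ Subgroup.subset_closure (Set.mem_insert _ _)))
  have h1 := K.card_le hBC hsq
  have h2 : Nat.card ↥K.A < Nat.card ↥B := by
    by_contra h
    exact hlt.ne (Subgroup.eq_of_le_of_card_ge hlt.le (Nat.le_of_not_lt h))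
  rw [K.X.card_A] at h2
  omega

/-- A member of the centraliser normalising the subgroup lies in it. -/
theorem mem_L_of_normalizes_aux {x : G} (hx : x ∈ K.C) (hm : x ∈ K.cls)
    (hn : x ∈ Subgroup.normalizer (K.A : Set G)) : x ∈ K.L := by
  refine K.mem_L_of_centralizes hm fun y hy => ?_
  by_contra h
  have hc : x * y * x ∈ K.L := by
    have := (K.conj_L hn y).2 hy
    rwa [K.inv hm] at this
  have hb := K.braid hx hm (K.L_mem_C hy) hy.2 h
  have hxA : x ∈ K.A := by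
    have e : x = y * (x * y * x) * y := by
      rw [hb, show y * (y * x * y) * y = y * y * x * (y * y) by group, K.sq hy.2, one_mul, mul_one]
    rw [e]
    exact mul_mem (mul_mem hy.1 hc.1) hy.1
  exact h (K.X.comm_A hxA hy.1)

end Ctx

end Cfsg.Agent.ThreeTransp.U62Class
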