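import Cfsg.Agent.Lib.ThreeTransp.U62Class.TripleCent

/-!
Non-commuting members have a common neighbour, so the class is a class of 3-transpositions.
-/

set_option autoImplicit false
set_option linter.unusedSectionVars false
set_option linter.style.haveILetI false

namespace Cfsg.Agent.ThreeTransp.U62Class

variable {G F : Type*} [Group G] [Finite G] [Field F] [Fintype F] (K : Ctx G F)

namespace Ctx

/-- A 2-subgroup containing the subgroup normalises it. -/
theorem two_normalizes {P : Subgroup G} (hP : IsPGroup 2 ↥P) (hAP : K.A ≤ P) : P ≤ K.N :=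
  fun x hx => K.mem_normalizer_of fun l hl =>
    (K.mem_L_of_two hP hAP (mul_mem (mul_mem hx (hAP hl.1)) (inv_mem hx)) (K.conj_mem x hl.2)).1

/-- An involution fixes a member of some conjugate of `L` containing given members of its
2-subgroup. -/
theorem exists_fixed_clique {P : Subgroup G} (hP : IsPGroup 2 ↥P) {t : G} (ht : t ∈ P)
    (htt : t * t = 1) : ∃ l ∈ K.cls, Commute l t ∧ ∀ x ∈ P, x ∈ K.cls → Commute l x := by
  haveI : Fact (Nat.Prime 2) := ⟨Nat.prime_two⟩
  obtain ⟨Q, hQ⟩ := hP.exists_le_sylow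
  have hA : IsPGroup 2 ↥K.A := IsPGroup.of_card (n := 10) K.X.card_A
  obtain ⟨Q₀, hQ₀⟩ := hA.exists_le_sylow
  obtain ⟨g, hg⟩ := MulAction.exists_smul_eq G Q Q₀
  have hmem : ∀ x ∈ P, g * x * g⁻¹ ∈ (Q₀ : Subgroup G) := fun x hx => by
    rw [← hg, Sylow.coe_subgroup_smul]
    exact ⟨x, hQ hx, rfl⟩
  obtain ⟨w, hw, e⟩ := K.exists_fixed (K.two_normalizes Q₀.isPGroup' hQ₀ (hmem t ht)) (by
    rw [show g * t * g⁻¹ * (g * t * g⁻¹) = g * (t * t) * g⁻¹ by group, htt, mul_one,
      mul_inv_cancel])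
  refine ⟨g⁻¹ * w * g, by simpa using K.conj_mem g⁻¹ hw.2, ?_, fun x hx hxm => ?_⟩
  · rw [← Basic.commute_conj (g := g), show g * (g⁻¹ * w * g) * g⁻¹ = w by group]
    exact (show Commute (g * t * g⁻¹) w from mul_inv_eq_iff_eq_mul.1 e).symm
  · rw [← Basic.commute_conj (g := g), show g * (g⁻¹ * w * g) * g⁻¹ = w by group]
    exact K.L_commute hw (K.mem_L_of_two Q₀.isPGroup' hQ₀ (hmem x hx) (K.conj_mem g hxm))

/-- The case of a triple product swapping a member with a member commuting with it. -/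
theorem swap_case {y u w : G} (hy : y ∈ K.cls) (hu : u ∈ K.L) (hw : w ∈ K.L) (hud : u ≠ K.d)
    (hwd : w ≠ K.d) (huw : u ≠ w) (hyd : ¬ Commute y K.d) (hyt : ¬ Commute y (K.d * u * w))
    (hc : Commute y (K.d * u * w * y * (K.d * u * w))) :
    ∃ q ∈ K.cls, Commute q K.d ∧ Commute q y := by
  set t := K.d * u * w with ht
  have htT : t ∈ K.T3 := ⟨_, K.d_mem_L, u, hu, w, hw, Ne.symm hud, Ne.symm hwd, huw, rfl⟩
  have htt : t * t = 1 := K.X.sq_A (K.T3_mem_A htT)
  have hti : t⁻¹ = t := inv_eq_of_mul_eq_one_right htt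
  set y' := t * y * t with hy'
  have hym : y' ∈ K.cls := by
    have := K.conj_mem t hy
    rwa [hti] at this
  have h4 : (y * t) ^ 4 = 1 := by
    have e : (y * t) ^ 2 = y * y' := by rw [pow_two, hy']; simp only [mul_assoc]
    rw [show (4 : ℕ) = 2 * 2 from rfl, pow_mul, e,
      (Basic.sq_prod_eq_one_iff (K.sq hy) (K.sq hym)).2 hc]
  obtain ⟨l, hl, hlt, hall⟩ := K.exists_fixed_clique (Classes.isPGroup_closure_pair (K.sq hy) htt h4)
    (Subgroup.subset_closure (Or.inr rfl)) htt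
  have hyP : y ∈ Subgroup.closure ({y, t} : Set G) := Subgroup.subset_closure (Or.inl rfl)
  have htP : t ∈ Subgroup.closure ({y, t} : Set G) := Subgroup.subset_closure (Or.inr rfl)
  have hly := hall y hyP hy
  have hly' := hall y' (mul_mem (mul_mem htP hyP) htP) hym
  by_cases hpair : K.HasPair t l
  · have hlL := K.type_one_mem htT hl hlt hpair
    exact ⟨l, hl, K.L_commute hlL K.d_mem_L, hly⟩
  have hXd : K.HasPair t K.d := K.hasPair_of_triple K.d_mem_L hu hw huw
  have hXu : K.HasPair t u := by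
    have := K.hasPair_of_triple hu K.d_mem_L hw (Ne.symm hwd)
    rwa [(K.L_commute hu K.d_mem_L).eq] at this
  have hXw : K.HasPair t w := by
    have := K.hasPair_of_triple hw K.d_mem_L hu (Ne.symm hud)
    rwa [show w * K.d * u = t by
      rw [mul_assoc, K.X.comm_A hw.1 (mul_mem K.X.d_mem_A hu.1)]] at this
  have hld := K.type_two_commute htT hl hlt hpair K.d_mem_L hXd
  have hlu := K.type_two_commute htT hl hlt hpair hu hXu
  have hlw := K.type_two_commute htT hl hlt hpair hw hXw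
  obtain ⟨h, hh⟩ := K.exists_to_d hl
  have hC : ∀ x, Commute l x → h * x * h⁻¹ ∈ K.C := fun x hx =>
    K.mem_C.2 (hh ▸ Basic.commute_conj.2 hx.symm)
  have hne : ∀ {x : G}, x ≠ l → h * x * h⁻¹ ≠ K.d := fun hx => hh ▸ conj_ne h hx
  have hne1 : ∀ {x : G}, K.HasPair t x → x ≠ l := fun hx e => hpair (e ▸ hx)
  obtain ⟨p, hp, hp0, ep⟩ := K.exists_vec (hC _ hld) (K.conj_mem h K.d_mem_cls) (hne (hne1 hXd))
  obtain ⟨q, hq, hq0, eq⟩ := K.exists_vec (hC _ hlu) (K.conj_mem h hu.2) (hne (hne1 hXu))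
  obtain ⟨r, hr, hr0, er⟩ := K.exists_vec (hC _ hlw) (K.conj_mem h hw.2) (hne (hne1 hXw))
  have hyl : y ≠ l := fun e => hyt (e ▸ hlt)
  have hy'l : y' ≠ l := by
    intro e
    refine hyt ?_
    have h1 : Commute y' t := e ▸ hlt
    have e1 : y = t * y' * t := by
      rw [hy', show t * (t * y * t) * t = t * t * y * (t * t) by group, htt, one_mul, mul_one]
    rw [e1]
    exact ((Commute.refl t).mul_left h1).mul_left (Commute.refl t)
  obtain ⟨s, hs, hs0, es⟩ := K.exists_vec (hC _ hly) (K.conj_mem h hy) (hne hyl)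
  obtain ⟨z, hz, hz0, ez⟩ := K.exists_vec (hC _ hly') (K.conj_mem h hym) (hne hy'l)
  have comm : ∀ {x x' : G} (hx : Commute l x) (hxm : x ∈ K.cls) (hx' : Commute l x')
      (hx'm : x' ∈ K.cls), Commute (K.img (h * x * h⁻¹)) (K.img (h * x' * h⁻¹)) ↔ Commute x x' := by
    intro x x' hx hxm hx' hx'm
    rw [← K.commute_iff (hC x hx) (K.conj_mem h hxm) (hC x' hx') (K.conj_mem h hx'm),
      Basic.commute_conj]
  have hpq : Cfsg.hermForm 6 F 2 p q = 0 := (Linear.P_commute_iff K.hF hp hq hp0 hq0).1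
    (ep ▸ eq ▸ (comm hld K.d_mem_cls hlu hu.2).2 (K.L_commute K.d_mem_L hu))
  have hpr : Cfsg.hermForm 6 F 2 p r = 0 := (Linear.P_commute_iff K.hF hp hr hp0 hr0).1
    (ep ▸ er ▸ (comm hld K.d_mem_cls hlw hw.2).2 (K.L_commute K.d_mem_L hw))
  have hqr : Cfsg.hermForm 6 F 2 q r = 0 := (Linear.P_commute_iff K.hF hq hr hq0 hr0).1
    (eq ▸ er ▸ (comm hlu hu.2 hlw hw.2).2 (K.L_commute hu hw))
  have hsz : Cfsg.hermForm 6 F 2 s z = 0 := (Linear.P_commute_iff K.hF hs hz hs0 hz0).1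
    (es ▸ ez ▸ (comm hly hy hly' hym).2 hc)
  have hprod : Linear.P K.hF hp * Linear.P K.hF hq * Linear.P K.hF hr * Linear.P K.hF hs =
      Linear.P K.hF hz * (Linear.P K.hF hp * Linear.P K.hF hq * Linear.P K.hF hr) := by
    rw [← ep, ← eq, ← er, ← es, ← ez, ← K.img_mul (hC _ hld) (hC _ hlu),
      ← K.img_mul (mul_mem (hC _ hld) (hC _ hlu)) (hC _ hlw),
      ← K.img_mul (mul_mem (mul_mem (hC _ hld) (hC _ hlu)) (hC _ hlw)) (hC _ hly),
      ← K.img_mul (hC _ hly') (mul_mem (mul_mem (hC _ hld) (hC _ hlu)) (hC _ hlw))]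
    congr 1
    rw [show h * K.d * h⁻¹ * (h * u * h⁻¹) * (h * w * h⁻¹) = h * t * h⁻¹ by rw [ht]; group,
      show h * t * h⁻¹ * (h * y * h⁻¹) = h * (t * y) * h⁻¹ by group,
      show h * y' * h⁻¹ * (h * t * h⁻¹) = h * (y' * t) * h⁻¹ by group, hy', mul_assoc (t * y), htt,
      mul_one]
  have fin : ∀ {x : G} (hx : Commute l x), x ∈ K.cls → Commute K.d x →
      ∀ {v : Fin 6 → F} (hv : Cfsg.hermForm 6 F 2 v v = 0), v ≠ 0 →
      K.img (h * x * h⁻¹) = Linear.P K.hF hv → Cfsg.hermForm 6 F 2 s v = 0 →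
      ∃ q ∈ K.cls, Commute q K.d ∧ Commute q y := fun {x} hx hxm hxd {v} hv hv0 ev e =>
    ⟨x, hxm, hxd.symm, ((comm hly hy hx hxm).1
      (es ▸ ev ▸ (Linear.P_commute_iff K.hF hs hv hs0 hv0).2 e)).symm⟩
  rcases Linear.triple_swap K.hF hp hq hr hs hz hs0 hpq hpr hqr hsz hprod with e | e | e
  · exact fin hld K.d_mem_cls (Commute.refl _) hp hp0 ep e
  · exact fin hlu hu.2 (K.L_commute K.d_mem_L hu) hq hq0 eq e
  · exact fin hlw hw.2 (K.L_commute K.d_mem_L hw) hr hr0 er e

/-- A member not commuting with `d` has a common neighbour with it. -/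
theorem exists_common {y : G} (hy : y ∈ K.cls) (hyd : ¬ Commute y K.d) :
    ∃ q ∈ K.cls, Commute q K.d ∧ Commute q y := by
  obtain ⟨u, hu, w, hw, hud, hwd, huw⟩ := K.exists_base_pair
  set t := K.d * u * w with ht
  have htT : t ∈ K.T3 := ⟨_, K.d_mem_L, u, hu, w, hw, Ne.symm hud, Ne.symm hwd, huw, rfl⟩
  have htA := K.T3_mem_A htT
  have htt : t * t = 1 := K.X.sq_A htA
  have hti : t⁻¹ = t := inv_eq_of_mul_eq_one_right htt
  have hXd : K.HasPair t K.d := K.hasPair_of_triple K.d_mem_L hu hw huw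
  obtain ⟨n, hn⟩ : ∃ n, n = orderOf (y * t) := ⟨_, rfl⟩
  have hpos : 0 < n := hn ▸ orderOf_pos _
  rcases Nat.even_or_odd n with ⟨r, hr⟩ | hodd
  swap
  · exfalso
    obtain ⟨i, hi⟩ := exists_conj_odd (K.sq hy) htt (hn ▸ hodd)
    exact K.T3_notMem htT (hi ▸ K.conj_mem _ hy)
  rcases Nat.even_or_odd r with ⟨s, hs⟩ | hodd
  · set c := (y * t) ^ r with hc
    have hc2 : c * c = 1 := by rw [← pow_add, ← hr, hn, pow_orderOf_eq_one]
    have hinv : ∀ k : ℕ, y * (y * t) ^ k * y⁻¹ = ((y * t) ^ k)⁻¹ := fun k => by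
      rw [← conj_pow, ← inv_pow, _root_.mul_inv_rev, K.inv hy, hti]
      congr 1
      rw [← mul_assoc, K.sq hy, one_mul]
    have hyc : Commute y c := by
      have := hinv r
      rw [inv_eq_of_mul_eq_one_right hc2, mul_inv_eq_iff_eq_mul] at this
      exact this
    have htc : Commute t c := by
      have e : t = y * (y * t) := by rw [← mul_assoc, K.sq hy, one_mul]
      have h : Commute (y * (y * t)) c := hyc.mul_left ((Commute.refl _).pow_right r)
      rwa [← e] at h
    have hy'' : y * c ∈ K.cls := by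
      have e : y * c = ((y * t) ^ s)⁻¹ * y * (y * t) ^ s := by
        rw [hc, hs, pow_add, ← hinv s]; group
      rw [e]
      have := K.conj_mem ((y * t) ^ s)⁻¹ hy
      rwa [inv_inv] at this
    have hc1 : c ≠ 1 := fun e => by
      have := Nat.le_of_dvd (by omega) (hn ▸ orderOf_dvd_of_pow_eq_one e)
      omega
    have hne : y ≠ y * c := fun e => hc1 (left_eq_mul.1 e)
    have hcomm : Commute y (y * c) := (Commute.refl y).mul_right hyc
    have hyt : ¬ Commute y t := fun h => by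
      have h2 := orderOf_dvd_of_pow_eq_one ((Basic.sq_prod_eq_one_iff (K.sq hy) htt).2 h)
      rw [← hn] at h2
      have := Nat.le_of_dvd (by norm_num) h2
      omega
    have e : y * (y * c) = t * y * t⁻¹ * (t * (y * c) * t⁻¹) := by
      rw [show t * y * t⁻¹ * (t * (y * c) * t⁻¹) = t * (y * (y * c)) * t⁻¹ by group,
        ← mul_assoc y y c, K.sq hy, one_mul, htc.eq, mul_inv_cancel_right]
    rcases K.pair_unique hy hy'' (K.conj_mem t hy) (K.conj_mem t hy'') hcomm hne e with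
      ⟨e1, -⟩ | ⟨e1, -⟩
    · exact absurd (show Commute t y from mul_inv_eq_iff_eq_mul.1 e1).symm hyt
    · rw [hti] at e1
      exact K.swap_case hy hu hw hud hwd huw hyd hyt (show Commute y (t * y * t) from e1 ▸ hcomm)
  · obtain ⟨hc2, hcy, hct, i, hi⟩ := exists_conj_middle (K.sq hy) htt hodd (by omega)
    set c := (y * t) ^ r with hc
    have hy'' : t * c ∈ K.cls := by
      rw [← hi]
      have := K.conj_mem ((y * t) ^ i)⁻¹ hy
      rwa [inv_inv] at this
    obtain ⟨g, hgt, hgL⟩ := K.exists_into_L htT hy'' ((Commute.refl t).mul_left hct.symm)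
    set y₁ := g * y * g⁻¹ with hy₁
    have hy₁m : y₁ ∈ K.cls := K.conj_mem g hy
    have hgd : g * K.d * g⁻¹ ∈ K.L := by
      refine K.type_one_mem htT (K.conj_mem g K.d_mem_cls) ?_ (K.hasPair_conj hgt hXd)
      have h : Commute K.d t := K.X.comm_A K.X.d_mem_A htA
      have := Basic.commute_conj (g := g) |>.2 h
      rwa [show g * t * g⁻¹ = t by rw [hgt.eq, mul_inv_cancel_right]] at this
    suffices hl : ∃ l ∈ K.L, Commute l y₁ by
      obtain ⟨l, hl, hly⟩ := hl
      refine ⟨g⁻¹ * l * g, by simpa using K.conj_mem g⁻¹ hl.2, ?_, ?_⟩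
      · rw [← Basic.commute_conj (g := g), show g * (g⁻¹ * l * g) * g⁻¹ = l by group]
        exact K.L_commute hl hgd
      · rw [← Basic.commute_conj (g := g), show g * (g⁻¹ * l * g) * g⁻¹ = l by group]
        exact hly
    set e := g * c * g⁻¹ with he
    have hye : Commute y₁ e := Basic.commute_conj.2 hcy
    have heA : e ∈ K.A := by
      have h : e = t * (g * (t * c) * g⁻¹) := by
        calc e = t * (t * (g * c * g⁻¹)) := by rw [← mul_assoc, htt, one_mul]
          _ = t * ((t * g) * c * g⁻¹) := by group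
          _ = t * ((g * t) * c * g⁻¹) := by rw [hgt.eq]
          _ = _ := by group
      rw [h]
      exact mul_mem htA hgL.1
    rcases K.cover heA with h | h | h | h
    · exfalso
      rw [he, conj_eq_one_iff] at h
      rw [h, mul_one] at hy''
      exact K.T3_notMem htT hy''
    · exact ⟨e, h, hye.symm⟩
    · obtain ⟨a, ha, b, hb, hne, hab⟩ := h
      exact ⟨a, ha, (K.commute_of_pair hy₁m ha.2 hb.2 (K.L_commute ha hb) hne
        (hab ▸ hye)).symm⟩
    · by_cases hp : K.HasPair e y₁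
      · exact ⟨y₁, K.type_one_mem h hy₁m hye hp, Commute.refl _⟩
      obtain ⟨a, ha, b, hb, x, hx, hab, hax, hbx, habx⟩ := h
      refine ⟨a, ha, (K.type_two_commute ?_ hy₁m hye hp ha
        (habx ▸ K.hasPair_of_triple ha hb hx hbx)).symm⟩
      exact ⟨a, ha, b, hb, x, hx, hab, hax, hbx, habx⟩

/-- Any two non-commuting members have product of order three. -/
theorem cube {a b : G} (ha : a ∈ K.cls) (hb : b ∈ K.cls) (h : ¬ Commute a b) :
    (a * b) ^ 3 = 1 := by
  obtain ⟨g, hg⟩ := K.exists_to_d ha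
  have hb' := K.conj_mem g hb
  have hn : ¬ Commute (g * b * g⁻¹) K.d := fun h' => h
    ((Basic.commute_conj (g := g)).1 (hg ▸ h'.symm))
  obtain ⟨q, hq, hqd, hqb⟩ := K.exists_common hb' hn
  obtain ⟨k, hk⟩ := K.exists_to_d hq
  have hC : ∀ x, Commute q x → k * x * k⁻¹ ∈ K.C := fun x hx =>
    K.mem_C.2 (hk ▸ Basic.commute_conj.2 hx.symm)
  set m := k * g with hm
  have e1 : m * a * m⁻¹ = k * K.d * k⁻¹ := by rw [← hg, hm]; group
  have e2 : m * b * m⁻¹ = k * (g * b * g⁻¹) * k⁻¹ := by rw [hm]; group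
  have hbr := K.braid (x := m * a * m⁻¹) (y := m * b * m⁻¹) (e1 ▸ hC _ hqd) (K.conj_mem m ha)
    (e2 ▸ hC _ hqb) (K.conj_mem m hb) (fun h' => h ((Basic.commute_conj (g := m)).1 h'))
  set x := m * a * m⁻¹
  set z := m * b * m⁻¹
  have h3 : (x * z) ^ 3 = 1 := by
    rw [pow_succ, pow_two]
    calc x * z * (x * z) * (x * z) = x * z * x * (z * x * z) := by group
      _ = z * x * z * (z * x * z) := by rw [hbr]
      _ = z * x * (z * z) * x * z := by group
      _ = 1 := by rw [K.sq (K.conj_mem m hb), mul_one, mul_assoc z x x,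
          K.sq (K.conj_mem m ha), mul_one, K.sq (K.conj_mem m hb)]
  have e3 : x * z = MulAut.conj m (a * b) := by
    show m * a * m⁻¹ * (m * b * m⁻¹) = m * (a * b) * m⁻¹
    group
  rw [e3, ← map_pow] at h3
  exact (MulEquiv.map_eq_one_iff _).1 h3

/-- The class is a set of 3-transpositions. -/
theorem isSet : Cfsg.IsThreeTranspositionSet K.cls :=
  ⟨fun _ hd => K.orderOf_mem hd, fun a ha b hb => by
    by_cases h : Commute a b
    · exact Or.inl ((Basic.sq_prod_eq_one_iff (K.sq ha) (K.sq hb)).2 h)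
    · exact Or.inr (K.cube ha hb h)⟩

end Ctx

end Cfsg.Agent.ThreeTransp.U62Class
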