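import Cfsg.Agent.Lib.ThreeTransp.U62Class.Basics
import Cfsg.Agent.Lib.ThreeTransp.Dihedral

/-!
The normaliser of the large elementary abelian subgroup permutes the 22 members evenly.
-/

set_option autoImplicit false
set_option linter.unusedSectionVars false
set_option linter.style.haveILetI false

namespace Cfsg.Agent.ThreeTransp.U62Class

open scoped _root_.Classical

/-- The sign of an involutory permutation. -/
theorem sign_of_sq {α : Type*} [Fintype α] [DecidableEq α] {σ : Equiv.Perm α} (h : σ * σ = 1) :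
    Equiv.Perm.sign σ = (-1) ^ (σ.support.card / 2) := by
  have hall : ∀ m ∈ σ.cycleType, m = 2 := by
    intro m hm
    have h1 := (Equiv.Perm.dvd_of_mem_cycleType hm).trans
      (orderOf_dvd_of_pow_eq_one (show σ ^ 2 = 1 by rw [pow_two, h]))
    have h2 := Equiv.Perm.two_le_of_mem_cycleType hm
    exact le_antisymm (Nat.le_of_dvd (by norm_num) h1) h2
  have hrep := Multiset.eq_replicate_of_mem hall
  have hsum := Equiv.Perm.sum_cycleType σ
  rw [hrep, Multiset.sum_replicate, smul_eq_mul] at hsum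
  rw [Equiv.Perm.sign_of_cycleType, hrep, Multiset.sum_replicate, Multiset.card_replicate,
    smul_eq_mul, ← hsum, Nat.mul_div_cancel _ (by norm_num : 0 < 2), pow_add,
    Even.neg_one_pow ⟨_, mul_two _⟩, one_mul]

variable {G F : Type*} [Group G] [Finite G] [Field F] [Fintype F] (K : Ctx G F)

namespace Ctx

/-- The normaliser of the subgroup. -/
abbrev N : Subgroup G := Subgroup.normalizer (K.A : Set G)

/-- The action on the members inside the subgroup. -/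
def act : ↥K.N →* Equiv.Perm ↥K.L where
  toFun n :=
    { toFun := fun x => ⟨(n : G) * x.1 * (n : G)⁻¹, (K.conj_L n.2 _).2 x.2⟩
      invFun := fun x => ⟨(n : G)⁻¹ * x.1 * (n : G), by
        have := (K.conj_L (inv_mem n.2) x.1).2 x.2
        rwa [inv_inv] at this⟩
      left_inv := fun x => Subtype.ext (by simp [mul_assoc])
      right_inv := fun x => Subtype.ext (by simp [mul_assoc]) }
  map_one' := Equiv.ext fun x => Subtype.ext (by simp)
  map_mul' m n := Equiv.ext fun x => Subtype.ext (by simp [mul_assoc])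

theorem act_apply (n : ↥K.N) (x : ↥K.L) :
    ((K.act n x : ↥K.L) : G) = (n : G) * x * (n : G)⁻¹ := rfl

noncomputable instance fintypeL : Fintype ↥K.L := Fintype.ofFinite _

/-- The sign of the action. -/
noncomputable def sgn : ↥K.N →* ℤˣ := Equiv.Perm.sign.comp K.act

theorem conj_normalizes {c : ↥K.C} (h : ∀ q ∈ K.X.D.E, K.X.f c * q * (K.X.f c)⁻¹ ∈ K.X.D.E) :
    (c : G) ∈ K.N := by
  refine K.mem_normalizer_of fun x hx => ?_
  obtain ⟨hxC, hE⟩ := K.X.mem_A.1 hx.1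
  refine K.X.mem_A.2 ⟨mul_mem (mul_mem c.2 hxC) (inv_mem c.2), ?_⟩
  show K.X.f (c * ⟨x, hxC⟩ * c⁻¹) ∈ _
  rw [map_mul, map_mul, map_inv]
  exact h _ hE

theorem d_fixed {c : ↥K.C} : (c : G) * K.d * (c : G)⁻¹ = K.d := by
  rw [((K.mem_C).1 c.2).eq, mul_inv_cancel_right]

theorem sgn_A {c : ↥K.C} (hc : (c : G) ∈ K.A) (hn : (c : G) ∈ K.N) :
    K.sgn ⟨c, hn⟩ = 1 := by
  have : K.act ⟨c, hn⟩ = 1 := Equiv.ext fun x => Subtype.ext (by
    rw [act_apply, K.X.comm_A hc x.2.1, mul_inv_cancel_right]; rfl)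
  rw [sgn, MonoidHom.comp_apply, this, map_one]

theorem sgn_root {c : ↥K.C} (hn : (c : G) ∈ K.N)
    (hb : K.X.f c ∈ K.X.D.B₁ ∨ K.X.f c ∈ K.X.D.B₂) : K.sgn ⟨c, hn⟩ = 1 := by
  have hsq : c * c = 1 := by
    refine K.X.sq_one ?_
    obtain ⟨g, hg⟩ : ∃ g, g * K.X.f c * g⁻¹ ∈ K.X.D.E := by
      rcases hb with hb | hb
      · obtain ⟨g, hg⟩ := K.X.D.B₁_conj; exact ⟨g, hg _ hb⟩
      · obtain ⟨g, hg⟩ := K.X.D.B₂_conj; exact ⟨g, hg _ hb⟩
    have := K.X.D.E_sq _ hg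
    rwa [show g * K.X.f c * g⁻¹ * (g * K.X.f c * g⁻¹) = g * (K.X.f c * K.X.f c) * g⁻¹ by group,
      conj_eq_one_iff] at this
  set σ := K.act ⟨c, hn⟩ with hσ
  have hσσ : σ * σ = 1 := by
    rw [hσ, ← map_mul, show (⟨c, hn⟩ : ↥K.N) * ⟨c, hn⟩ = 1 from
      Subtype.ext (congrArg (fun z : ↥K.C => (z : G)) hsq), map_one]
  have h4 : 4 ∣ σ.support.card := by
    refine dvd_trans (K.facts.even _ hb) (dvd_of_eq ?_)
    rw [← Set.ncard_coe_finset]
    symm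
    refine Set.ncard_congr (fun x _ => K.img (x : G)) ?_ ?_ ?_
    · intro x hx
      rw [Finset.mem_coe, Equiv.Perm.mem_support] at hx
      have hxd : (x : G) ≠ K.d := fun e => hx (Subtype.ext (by
        rw [act_apply, e]; exact K.d_fixed))
      refine ⟨K.img_mem_O x.2 hxd, fun e => hx (Subtype.ext ?_)⟩
      rw [act_apply]
      have hxC := K.L_mem_C x.2
      refine K.img_inj (mul_mem (mul_mem c.2 hxC) (inv_mem c.2)) ((K.conj_iff _).2 x.2.2) hxC x.2.2 ?_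
      rw [K.img_mul (mul_mem c.2 hxC) (inv_mem c.2), K.img_mul c.2 hxC, K.img_inv c.2, K.img_eq c.2]
      exact e
    · intro x y _ _ e
      exact Subtype.ext (K.img_inj (K.L_mem_C x.2) x.2.2 (K.L_mem_C y.2) y.2.2 e)
    · rintro r ⟨hr, hne⟩
      obtain ⟨x, hx, -, e⟩ := K.exists_of_O hr
      refine ⟨⟨x, hx⟩, ?_, e⟩
      rw [Finset.mem_coe, Equiv.Perm.mem_support]
      intro h
      refine hne ?_
      have h' : (c : G) * x * (c : G)⁻¹ = x := congrArg Subtype.val h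
      have hxC := K.L_mem_C hx
      rw [← e, ← K.img_eq c.2, ← K.img_inv c.2, ← K.img_mul c.2 hxC,
        ← K.img_mul (mul_mem c.2 hxC) (inv_mem c.2), h']
  rw [sgn, MonoidHom.comp_apply, ← hσ, sign_of_sq hσσ]
  obtain ⟨k, hk⟩ := h4
  rw [hk, show 4 * k / 2 = 2 * k by omega, Even.neg_one_pow (even_two_mul k)]

theorem E_conj {q r : Cfsg.PSU 6 F 2} (hq : q ∈ K.X.D.E) (hr : r ∈ K.X.D.E) :
    q * r * q⁻¹ ∈ K.X.D.E := mul_mem (mul_mem hq hr) (inv_mem hq)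

/-- The preimage of the Sylow subgroup normalises and acts evenly. -/
theorem sgn_S {c : ↥K.C} (hc : c ∈ K.X.S₀) : ∃ hn : (c : G) ∈ K.N, K.sgn ⟨c, hn⟩ = 1 := by
  let W : Subgroup ↥K.C :=
    { carrier := {c | ∃ hn : (c : G) ∈ K.N, K.sgn ⟨c, hn⟩ = 1}
      one_mem' := ⟨one_mem _, map_one K.sgn⟩
      mul_mem' := fun {a b} ⟨ha, ea⟩ ⟨hb, eb⟩ => ⟨mul_mem ha hb, by
        rw [show (⟨((a * b : ↥K.C) : G), mul_mem ha hb⟩ : ↥K.N) = ⟨a, ha⟩ * ⟨b, hb⟩ from rfl,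
          map_mul, ea, eb, one_mul]⟩
      inv_mem' := fun {a} ⟨ha, ea⟩ => ⟨inv_mem ha, by
        rw [show (⟨((a⁻¹ : ↥K.C) : G), inv_mem ha⟩ : ↥K.N) = ⟨a, ha⟩⁻¹ from rfl, map_inv, ea,
          inv_one]⟩ }
  have hS : K.X.D.S ≤ W.map K.X.f := by
    refine K.X.D.B_gen.trans (sup_le (sup_le ?_ ?_) ?_) <;> intro r hr <;>
      obtain ⟨c, rfl⟩ := K.X.surj r
    · have hA : (c : G) ∈ K.A := K.X.mem_A.2 ⟨c.2, hr⟩
      have hn : (c : G) ∈ K.N := K.conj_normalizes fun q hq => K.E_conj hr hq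
      exact ⟨c, ⟨hn, K.sgn_A hA hn⟩, rfl⟩
    · have hn : (c : G) ∈ K.N := K.conj_normalizes fun q hq => K.X.D.B₂_norm _ hr q hq
      exact ⟨c, ⟨hn, K.sgn_root hn (Or.inr hr)⟩, rfl⟩
    · have hn : (c : G) ∈ K.N := K.conj_normalizes fun q hq => K.X.D.B₁_norm _ hr q hq
      exact ⟨c, ⟨hn, K.sgn_root hn (Or.inl hr)⟩, rfl⟩
  obtain ⟨b, hb, e⟩ := hS hc
  show c ∈ W
  rcases K.X.eq_of_f e with h | h
  · rw [h]; exact hb
  · rw [h]
    refine W.mul_mem hb ⟨?_, ?_⟩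
    · exact K.conj_normalizes fun q hq => by rw [K.X.f_dd]; simpa using hq
    · exact K.sgn_A K.X.d_mem_A _

/-- Elements fixing `d` act evenly. -/
theorem sgn_stab (n : ↥K.N) (h : (n : G) ∈ K.C) : K.sgn n = 1 := by
  set H₀ : Subgroup ↥K.C := K.N.subgroupOf K.C with hH₀
  let φ : ↥H₀ →* ℤˣ := K.sgn.comp
    { toFun := fun c => ⟨((c : ↥K.C) : G), Subgroup.mem_subgroupOf.1 c.2⟩
      map_one' := rfl
      map_mul' := fun _ _ => rfl }
  have hle : K.X.S₀ ≤ H₀ := fun c hc =>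
    Subgroup.mem_subgroupOf.2 (K.sgn_S hc).choose
  have hker : K.X.S₀.subgroupOf H₀ ≤ φ.ker := fun c hc =>
    MonoidHom.mem_ker.2 (K.sgn_S (Subgroup.mem_subgroupOf.1 hc)).choose_spec
  have hodd : ¬ 2 ∣ φ.ker.index := fun h2 => K.X.S₀_odd
    ((h2.trans (Subgroup.index_dvd_of_le hker)).trans (Dvd.intro _ (Subgroup.relIndex_mul_index hle)))
  have h2 : φ.ker.index ∣ 2 := by
    rw [Subgroup.index_ker]
    refine (Subgroup.card_subgroup_dvd_card _).trans (dvd_of_eq ?_)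
    rw [Nat.card_eq_fintype_card, Fintype.card_units_int]
  have h1 : φ.ker.index = 1 := by
    rcases (Nat.dvd_prime Nat.prime_two).1 h2 with h1 | h1
    · exact h1
    · exact absurd (dvd_of_eq h1.symm) hodd
  have hmem : (⟨⟨n, h⟩, n.2⟩ : ↥H₀) ∈ φ.ker := by
    rw [Subgroup.index_eq_one.1 h1]; exact Subgroup.mem_top _
  exact MonoidHom.mem_ker.1 hmem

/-- The stabiliser of `d` is transitive on the others. -/
theorem trans_stab {u v : G} (hu : u ∈ K.L) (hud : u ≠ K.d) (hv : v ∈ K.L) (hvd : v ≠ K.d) :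
    ∃ c ∈ K.C, c ∈ K.N ∧ c * u * c⁻¹ = v := by
  obtain ⟨g, hg, e⟩ := K.X.D.O_trans 0 _ (K.img_mem_O hu hud) _ (K.img_mem_O hv hvd)
  obtain ⟨c, rfl⟩ := K.X.surj g
  have huC := K.L_mem_C hu
  refine ⟨c, c.2, K.conj_normalizes hg, K.img_inj (mul_mem (mul_mem c.2 huC) (inv_mem c.2))
    ((K.conj_iff _).2 hu.2) (K.L_mem_C hv) hv.2 ?_⟩
  rw [K.img_mul (mul_mem c.2 huC) (inv_mem c.2), K.img_mul c.2 huC, K.img_inv c.2, K.img_eq c.2]
  exact e

theorem exists_move {u : G} (hu : u ∈ K.L) : ∃ n ∈ K.N, n * K.d * n⁻¹ = u :=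
  K.X.trans hu.1 hu.2

/-- The normaliser is two-transitive, one given member to `d`. -/
theorem exists_two {u v w : G} (hu : u ∈ K.L) (hv : v ∈ K.L) (hvu : v ≠ u) (hw : w ∈ K.L)
    (hwd : w ≠ K.d) : ∃ n ∈ K.N, n * u * n⁻¹ = K.d ∧ n * v * n⁻¹ = w := by
  obtain ⟨m, hm, em⟩ := K.exists_move hu
  have hv' : m⁻¹ * v * m ∈ K.L := by
    have := (K.conj_L (inv_mem hm) v).2 hv
    rwa [inv_inv] at this
  have hne : m⁻¹ * v * m ≠ K.d := fun e => hvu (by rw [← em, ← e]; group)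
  obtain ⟨c, hc, hcn, ec⟩ := K.trans_stab hv' hne hw hwd
  refine ⟨c * m⁻¹, mul_mem hcn (inv_mem hm), ?_, ?_⟩
  · rw [← em]
    have := K.d_fixed (c := ⟨c, hc⟩)
    calc c * m⁻¹ * (m * K.d * m⁻¹) * (c * m⁻¹)⁻¹ = c * K.d * c⁻¹ := by group
      _ = K.d := this
  · rw [← ec]; group

/-- The normaliser acts evenly. -/
theorem sgn_eq_one (n : ↥K.N) : K.sgn n = 1 := by
  have hconj : ∀ m h : ↥K.N, K.sgn (m * h * m⁻¹) = K.sgn h := fun m h => by
    rw [map_mul, map_mul, map_inv, mul_comm (K.sgn m), mul_inv_cancel_right]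
  set u := (n : G) * K.d * (n : G)⁻¹ with hu
  have huL : u ∈ K.L := (K.conj_L n.2 _).2 K.d_mem_L
  by_cases hud : u = K.d
  · exact K.sgn_stab n (K.mem_C.2 (mul_inv_eq_iff_eq_mul.1 hud))
  obtain ⟨w, hw, hwd, hwu⟩ : ∃ w ∈ K.L, w ≠ K.d ∧ w ≠ u := by
    by_contra! h
    have hsub : K.L ⊆ {K.d, u} := fun w hw => by
      by_cases e : w = K.d
      · exact Or.inl e
      · exact Or.inr (h w hw e)
    have := Set.ncard_le_ncard hsub
    rw [K.ncard_L, Set.ncard_pair (Ne.symm hud)] at this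
    omega
  obtain ⟨m, hm, em⟩ := K.exists_move hw
  have hmd : m⁻¹ * K.d * m ∈ K.L := by
    have := (K.conj_L (inv_mem hm) K.d).2 K.d_mem_L
    rwa [inv_inv] at this
  have hmu : m⁻¹ * u * m ∈ K.L := by
    have := (K.conj_L (inv_mem hm) u).2 huL
    rwa [inv_inv] at this
  obtain ⟨c, hc, hcn, ec⟩ := K.trans_stab hmd (fun e => hwd (by rw [← em]; nth_rewrite 1 [← e]; group))
    hmu (fun e => hwu (by rw [← em, ← e]; group))
  have he : K.sgn (⟨m, hm⟩ * ⟨c, hcn⟩ * ⟨m, hm⟩⁻¹) = 1 := by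
    rw [hconj]; exact K.sgn_stab ⟨c, hcn⟩ hc
  set e : ↥K.N := ⟨m, hm⟩ * ⟨c, hcn⟩ * ⟨m, hm⟩⁻¹ with hedef
  have hed : (e : G) * K.d * (e : G)⁻¹ = u := by
    show m * c * m⁻¹ * K.d * (m * c * m⁻¹)⁻¹ = u
    calc m * c * m⁻¹ * K.d * (m * c * m⁻¹)⁻¹ = m * (c * (m⁻¹ * K.d * m) * c⁻¹) * m⁻¹ := by group
      _ = u := by rw [ec]; group
  have hrest : ((e⁻¹ * n : ↥K.N) : G) ∈ K.C := by
    refine K.mem_C.2 (mul_inv_eq_iff_eq_mul.1 ?_)
    show (e : G)⁻¹ * n * K.d * ((e : G)⁻¹ * n)⁻¹ = K.d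
    calc (e : G)⁻¹ * n * K.d * ((e : G)⁻¹ * n)⁻¹ = (e : G)⁻¹ * u * e := by rw [hu]; group
      _ = K.d := by rw [← hed]; group
  have h1 := K.sgn_stab (e⁻¹ * n) hrest
  rw [map_mul, map_inv, he, inv_one, one_mul] at h1
  exact h1

/-- An involution normalising the subgroup fixes a member. -/
theorem exists_fixed {n : G} (hn : n ∈ K.N) (h2 : n * n = 1) :
    ∃ w ∈ K.L, n * w * n⁻¹ = w := by
  by_contra! h
  set σ := K.act ⟨n, hn⟩ with hσ
  have hσσ : σ * σ = 1 := by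
    rw [hσ, ← map_mul, show (⟨n, hn⟩ : ↥K.N) * ⟨n, hn⟩ = 1 from Subtype.ext h2, map_one]
  have hsup : σ.support = Finset.univ := Finset.eq_univ_of_forall fun x =>
    Equiv.Perm.mem_support.2 fun e => h x.1 x.2 (congrArg Subtype.val e)
  have h1 := K.sgn_eq_one ⟨n, hn⟩
  rw [sgn, MonoidHom.comp_apply, ← hσ, sign_of_sq hσσ, hsup, Finset.card_univ,
    ← Nat.card_eq_fintype_card, Nat.card_coe_set_eq, K.ncard_L] at h1
  exact absurd h1 (by decide)

/-- A member normalising the subgroup lies in it. -/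
theorem mem_L_of_normalizes {x : G} (hm : x ∈ K.cls) (hn : x ∈ K.N) : x ∈ K.L := by
  obtain ⟨w, hw, e⟩ := K.exists_fixed hn (K.sq hm)
  obtain ⟨m, hmn, em⟩ := K.exists_move hw
  have hx' : m⁻¹ * x * m ∈ K.N := mul_mem (mul_mem (inv_mem hmn) hn) hmn
  have hC : m⁻¹ * x * m ∈ K.C := by
    refine K.mem_C.2 ?_
    have hxw : x * w = w * x := mul_inv_eq_iff_eq_mul.1 e
    show m⁻¹ * x * m * K.d = K.d * (m⁻¹ * x * m)
    calc m⁻¹ * x * m * K.d = m⁻¹ * (x * (m * K.d * m⁻¹)) * m := by group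
      _ = m⁻¹ * (m * K.d * m⁻¹ * x) * m := by rw [em, hxw]
      _ = _ := by group
  have hm' : m⁻¹ * x * m ∈ K.cls := by simpa using K.conj_mem m⁻¹ hm
  have := (K.conj_L hmn _).2 (K.mem_L_of_normalizes_aux hC hm' hx')
  simpa [mul_assoc] using this

/-- In a 2-subgroup containing the subgroup the only members are the 22. -/
theorem mem_L_of_two {P : Subgroup G} (hP : IsPGroup 2 ↥P) (hAP : K.A ≤ P) {x : G}
    (hx : x ∈ P) (hm : x ∈ K.cls) : x ∈ K.L := by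
  suffices hPN : P ≤ K.N from K.mem_L_of_normalizes hm (hPN hx)
  by_contra hlt
  haveI : Fact (Nat.Prime 2) := ⟨Nat.prime_two⟩
  haveI := hP.isNilpotent
  set H₁ : Subgroup ↥P := K.N.subgroupOf P with hH₁
  have hne : H₁ < ⊤ := lt_top_iff_ne_top.2 fun e => hlt (Subgroup.subgroupOf_eq_top.1 e)
  obtain ⟨y, hy, hy'⟩ := SetLike.exists_of_lt (Group.normalizerCondition_of_isNilpotent H₁ hne)
  refine hy' (Subgroup.mem_subgroupOf.2 (K.mem_normalizer_of fun l hl => ?_))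
  have hlN : l ∈ K.N := Subgroup.le_normalizer hl.1
  have h1 : y * ⟨l, hAP hl.1⟩ * y⁻¹ ∈ H₁ :=
    (Subgroup.mem_normalizer_iff.1 hy ⟨l, hAP hl.1⟩).1 (Subgroup.mem_subgroupOf.2 hlN)
  exact (K.mem_L_of_normalizes (K.conj_mem _ hl.2) (Subgroup.mem_subgroupOf.1 h1)).1

/-- The members of a 2-subgroup lie in one conjugate of the 22. -/
theorem exists_clique {P : Subgroup G} (hP : IsPGroup 2 ↥P) :
    ∃ g : G, ∀ x ∈ P, x ∈ K.cls → g * x * g⁻¹ ∈ K.L := by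
  haveI : Fact (Nat.Prime 2) := ⟨Nat.prime_two⟩
  obtain ⟨Q, hQ⟩ := hP.exists_le_sylow
  have hA : IsPGroup 2 ↥K.A := IsPGroup.of_card (n := 10) K.X.card_A
  obtain ⟨Q₀, hQ₀⟩ := hA.exists_le_sylow
  obtain ⟨g, hg⟩ := MulAction.exists_smul_eq G Q Q₀
  refine ⟨g, fun x hx hm => K.mem_L_of_two Q₀.isPGroup' hQ₀ ?_ (K.conj_mem g hm)⟩
  rw [← hg, Sylow.coe_subgroup_smul]
  exact ⟨x, hQ hx, rfl⟩

/-- Members of a 2-subgroup commute. -/
theorem commute_of_two {P : Subgroup G} (hP : IsPGroup 2 ↥P) {x y : G} (hx : x ∈ P)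
    (hy : y ∈ P) (hxm : x ∈ K.cls) (hym : y ∈ K.cls) : Commute x y := by
  obtain ⟨g, hg⟩ := K.exists_clique hP
  exact Basic.commute_conj.1 (K.L_commute (hg x hx hxm) (hg y hy hym))

/-- Two commuting members can be moved into the 22, the first one to `d`. -/
theorem exists_pair_to {a b : G} (ha : a ∈ K.cls) (hb : b ∈ K.cls) (h : Commute a b) :
    ∃ g : G, g * a * g⁻¹ = K.d ∧ g * b * g⁻¹ ∈ K.L := by
  have hab4 : (a * b) ^ 4 = 1 := by
    rw [show (4 : ℕ) = 2 * 2 from rfl, pow_mul,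
      (Basic.sq_prod_eq_one_iff (K.sq ha) (K.sq hb)).2 h, one_pow]
  obtain ⟨g, hg⟩ := K.exists_clique (Classes.isPGroup_closure_pair (K.sq ha) (K.sq hb) hab4)
  have ha' := hg a (Subgroup.subset_closure (Or.inl rfl)) ha
  have hb' := hg b (Subgroup.subset_closure (Or.inr rfl)) hb
  obtain ⟨n, hn, e⟩ := K.exists_move ha'
  refine ⟨n⁻¹ * g, ?_, ?_⟩
  · calc n⁻¹ * g * a * (n⁻¹ * g)⁻¹ = n⁻¹ * (g * a * g⁻¹) * n := by group
      _ = K.d := by rw [← e]; group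
  · have := (K.conj_L (inv_mem hn) _).2 hb'
    rwa [show n⁻¹ * (g * b * g⁻¹) * n⁻¹⁻¹ = n⁻¹ * g * b * (n⁻¹ * g)⁻¹ by group] at this

/-- The product of two non-commuting members has order prime to four. -/
theorem four_not_dvd {a b : G} (ha : a ∈ K.cls) (hb : b ∈ K.cls) :
    ¬ 4 ∣ orderOf (a * b) := by
  rintro ⟨m, hm⟩
  have hpos : 0 < orderOf (a * b) := orderOf_pos _
  set y := a * (a * b) ^ m with hy
  have hym : y ∈ K.cls :=
    Dihedral.mem_of_mul_pow (fun g _ hd => K.conj_mem g hd) (K.orderOf_mem ha) (K.orderOf_mem hb)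
      ha hb m
  have e : a * y = (a * b) ^ m := by rw [hy, ← mul_assoc, K.sq ha, one_mul]
  have h4 : (a * y) ^ 4 = 1 := by
    rw [e, ← pow_mul, mul_comm, ← hm, pow_orderOf_eq_one]
  have hc := K.commute_of_two (Classes.isPGroup_closure_pair (K.sq ha) (K.sq hym) h4)
    (Subgroup.subset_closure (Or.inl rfl)) (Subgroup.subset_closure (Or.inr rfl)) ha hym
  have h2 : (a * b) ^ (m * 2) = 1 := by
    rw [pow_mul, ← e, (Basic.sq_prod_eq_one_iff (K.sq ha) (K.sq hym)).2 hc]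
  have := Nat.le_of_dvd (by omega) (orderOf_dvd_of_pow_eq_one h2)
  omega

end Ctx

end Cfsg.Agent.ThreeTransp.U62Class
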