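import Cfsg.Agent.Lib.ThreeTransp.U62Class.Diameter
import Cfsg.Agent.Lib.ThreeTransp.Factor.Types

/-!
The class generates a group with trivial centre acting primitively on it, with local groups double
covers of `PSU(6, 2)`.
-/

set_option autoImplicit false
set_option linter.unusedSectionVars false
set_option linter.style.haveILetI false

namespace Cfsg.Agent.ThreeTransp.U62Class

open Cfsg.Agent.Classical.Unitary
open Cfsg.Agent.ThreeTransp.Factor (nb)
open scoped commutatorElement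

variable {G F : Type*} [Group G] [Finite G] [Field F] [Fintype F] (K : Ctx G F)

namespace Ctx

theorem mem_nb {x : G} : x ∈ nb K.cls K.d ↔ x ∈ K.cls ∧ x ≠ K.d ∧ x ∈ K.C :=
  ⟨fun h => ⟨h.1, h.2.1, K.mem_C.2 (show Commute K.d x from h.2.2).symm⟩,
    fun h => ⟨h.1, h.2.1, (K.mem_C.1 h.2.2).symm⟩⟩

include K in
theorem center_Q {q : Cfsg.PSU 6 F 2} (h : ∀ r, Commute q r) : q = 1 := by
  haveI := Factor.UnitarySix.simple_PSU K.hF
  rcases (inferInstance : (Subgroup.center (Cfsg.PSU 6 F 2)).Normal).eq_bot_or_eq_top with e | e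
  · rw [← Subgroup.mem_bot, ← e, Subgroup.mem_center_iff]
    exact fun r => (h r).eq.symm
  · exfalso
    obtain ⟨u, hu, v, hv, hud, hvd, huv⟩ := K.exists_base_pair
    obtain ⟨p, hp, hp0, ep⟩ := K.vecL hu hud
    obtain ⟨s, hs, hsp⟩ := UnitaryPoints.exists_partner' K.hF hp hp0
    have hs0 : s ≠ 0 := fun e' => by simp [e', Cfsg.hermForm] at hsp
    have hc : Linear.P K.hF hp ∈ Subgroup.center (Cfsg.PSU 6 F 2) := e ▸ Subgroup.mem_top _
    exact one_ne_zero (hsp.symm.trans ((Linear.P_commute_iff K.hF hs hp hs0 hp0).1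
      (Subgroup.mem_center_iff.1 hc (Linear.P K.hF hs))))

/-- The neighbours of `d` generate its centraliser. -/
theorem closure_nb : Subgroup.closure (nb K.cls K.d) = K.C := by
  set B := Subgroup.closure (nb K.cls K.d) with hB
  have hBC : B ≤ K.C := (Subgroup.closure_le _).2 fun x hx => (K.mem_nb.1 hx).2.2
  refine le_antisymm hBC ?_
  set M : Subgroup ↥K.C := B.subgroupOf K.C with hM
  haveI hMn : M.Normal := by
    refine ⟨fun m hm c => ?_⟩
    rw [hM, Subgroup.mem_subgroupOf] at hm ⊢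
    have hle : B ≤ B.comap (MulAut.conj (c : G)).toMonoidHom := (Subgroup.closure_le _).2 fun x hx => by
      obtain ⟨h1, h2, h3⟩ := K.mem_nb.1 hx
      refine Subgroup.subset_closure (K.mem_nb.2 ⟨K.conj_mem _ h1, fun e => h2 ?_,
        mul_mem (mul_mem c.2 h3) (inv_mem c.2)⟩)
      exact mul_left_cancel (mul_right_cancel (e.trans (K.d_fixed (c := c)).symm))
    exact hle hm
  haveI : (M.map K.X.f).Normal := hMn.map _ K.X.surj
  haveI := Factor.UnitarySix.simple_PSU K.hF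
  have htop : M.map K.X.f = ⊤ := by
    rcases (inferInstance : (M.map K.X.f).Normal).eq_bot_or_eq_top with e | e
    · exfalso
      obtain ⟨u, hu, v, hv, hud, -, -⟩ := K.exists_base_pair
      have hm : K.img u ∈ M.map K.X.f := ⟨⟨u, K.L_mem_C hu⟩, Subgroup.mem_subgroupOf.2
        (Subgroup.subset_closure (K.mem_nb.2 ⟨hu.2, hud, K.L_mem_C hu⟩)), (K.img_eq _).symm⟩
      rw [e, Subgroup.mem_bot] at hm
      exact hud (K.img_eq_one (K.L_mem_C hu) hu.2 hm)
    · exact e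
  have hcases : ∀ c : ↥K.C, c ∈ M ∨ c * K.X.dd ∈ M := by
    intro c
    obtain ⟨m, hm, e⟩ := (htop.ge (Subgroup.mem_top (K.X.f c)) : K.X.f c ∈ M.map K.X.f)
    rcases K.X.eq_of_f e with h | h
    · exact Or.inl (h ▸ hm)
    · right; rw [h, mul_assoc, K.X.dd_sq, mul_one]; exact hm
  have hcom : commutator ↥K.C ≤ M := by
    rw [commutator_def, Subgroup.commutator_le]
    intro a _ b _
    have hd : ∀ a b : ↥K.C, ⁅a * K.X.dd, b⁆ = ⁅a, b⁆ := fun a b => by
      simp only [commutatorElement_def, _root_.mul_inv_rev]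
      calc a * K.X.dd * b * (K.X.dd⁻¹ * a⁻¹) * b⁻¹ = a * (K.X.dd * b) * K.X.dd⁻¹ * a⁻¹ * b⁻¹ := by
            group
        _ = a * (b * K.X.dd) * K.X.dd⁻¹ * a⁻¹ * b⁻¹ := by rw [K.X.dd_central]
        _ = _ := by group
    have hd' : ∀ a b : ↥K.C, ⁅a, b * K.X.dd⁆ = ⁅a, b⁆ := fun a b => by
      rw [← commutatorElement_inv, hd, commutatorElement_inv]
    have key : ∀ a b : ↥K.C, a ∈ M → b ∈ M → ⁅a, b⁆ ∈ M := fun a b ha hb =>
      M.mul_mem (M.mul_mem (M.mul_mem ha hb) (M.inv_mem ha)) (M.inv_mem hb)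
    rcases hcases a with ha | ha <;> rcases hcases b with hb | hb
    · exact key _ _ ha hb
    · rw [← hd' a b]; exact key _ _ ha hb
    · rw [← hd a b]; exact key _ _ ha hb
    · rw [← hd' a b, ← hd a]; exact key _ _ ha hb
  have hdd : K.X.dd ∈ M := by
    refine sup_le hcom ((Subgroup.closure_le _).2 ?_) K.dd_gen
    rintro c ⟨hP, hne⟩
    exact Subgroup.mem_subgroupOf.2 (Subgroup.subset_closure
      (K.mem_nb.2 ⟨hP, fun e => hne (Subtype.ext e), c.2⟩))
  intro c hc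
  refine Subgroup.mem_subgroupOf.1 (?_ : (⟨c, hc⟩ : ↥K.C) ∈ M)
  rcases hcases ⟨c, hc⟩ with h | h
  · exact h
  · exact (M.mul_mem_cancel_right hdd).1 h

theorem central_C {x : G} (hx : x ∈ K.C) (h : ∀ c ∈ K.C, Commute x c) : K.img x = 1 := by
  refine K.center_Q fun r => ?_
  obtain ⟨c, rfl⟩ := K.X.surj r
  show K.img x * K.X.f c = K.X.f c * K.img x
  rw [← K.img_eq c.2, ← K.img_mul hx c.2, ← K.img_mul c.2 hx, (h c c.2).eq]

/-- The centraliser is transitive on the neighbours. -/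
theorem trans_nb {x y : G} (hx : x ∈ nb K.cls K.d) (hy : y ∈ nb K.cls K.d) :
    ∃ c ∈ K.C, c * x * c⁻¹ = y := by
  obtain ⟨hxm, hxd, hxC⟩ := K.mem_nb.1 hx
  obtain ⟨hym, hyd, hyC⟩ := K.mem_nb.1 hy
  obtain ⟨u, hu, hu0, eu⟩ := K.exists_vec hxC hxm hxd
  obtain ⟨v, hv, hv0, ev⟩ := K.exists_vec hyC hym hyd
  obtain ⟨k, a, hk⟩ := exists_su_point K.hF hu0 hv0 hu hv
  have ha : a ≠ 0 := fun e => mat_mulVec_ne_zero k hu0 (by rw [hk, e, zero_smul])
  have hav : Cfsg.hermForm 6 F 2 (a • v) (a • v) = 0 := by rw [← hk, SU_H, hu]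
  obtain ⟨c, hc⟩ := K.X.surj (QuotientGroup.mk' _ k)
  refine ⟨c, c.2, K.img_inj (mul_mem (mul_mem c.2 hxC) (inv_mem c.2)) (K.conj_mem _ hxm) hyC hym ?_⟩
  rw [K.img_mul (mul_mem c.2 hxC) (inv_mem c.2), K.img_mul c.2 hxC, K.img_inv c.2, K.img_eq c.2,
    hc, eu, ev, Linear.P, Linear.P, ← map_mul, ← map_inv, ← map_mul]
  exact congrArg _ ((GroupStructure3.ThreeTransUnitary.tr_conj K.hF k hu hav hk).trans
    (GroupStructure3.ThreeTransUnitary.tr_smul K.hF hv ha hav))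

/-- Some member does not commute with `d`. -/
theorem exists_outer : ∃ y ∈ K.cls, ¬ Commute y K.d := by
  by_contra! h
  obtain ⟨u, hu, v, hv, hud, -, -⟩ := K.exists_base_pair
  obtain ⟨g, hg⟩ := K.exists_to_d hu.2
  refine hud (K.img_eq_one (K.L_mem_C hu) hu.2 (K.central_C (K.L_mem_C hu) ?_))
  have hle : K.C ≤ K.C.comap (MulAut.conj g⁻¹).toMonoidHom := by
    intro c hc
    rw [← K.closure_nb] at hc ⊢
    have : Subgroup.closure (nb K.cls K.d) ≤
        (Subgroup.closure (nb K.cls K.d)).comap (MulAut.conj g⁻¹).toMonoidHom := by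
      rw [Subgroup.closure_le]
      intro x hx
      rw [K.closure_nb]
      exact K.mem_C.2 (h _ (K.conj_mem g⁻¹ hx.1))
    exact this hc
  intro c hc
  have heq := Subgroup.eq_of_le_of_card_ge
    (Subgroup.map_le_iff_le_comap.2 hle) (by
      rw [Subgroup.card_map_of_injective (MulAut.conj g⁻¹).injective])
  obtain ⟨b, hb, rfl⟩ : c ∈ K.C.map (MulAut.conj g⁻¹).toMonoidHom := by rw [heq]; exact hc
  rw [← Basic.commute_conj (g := g), hg,
    show g * (MulAut.conj g⁻¹).toMonoidHom b * g⁻¹ = b by simp [mul_assoc]]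
  exact (K.mem_C.1 hb).symm

theorem exists_meet {y : G} (hy : y ∈ K.cls) (h : ¬ Commute y K.d) :
    ∃ x ∈ nb K.cls K.d, ¬ Commute y x := by
  by_contra! hall
  refine h ?_
  have hle : K.C ≤ Subgroup.centralizer ({y} : Set G) := by
    rw [← K.closure_nb, Subgroup.closure_le]
    exact fun x hx => Subgroup.mem_centralizer_singleton_iff.2 (hall x hx).eq.symm
  exact (Subgroup.mem_centralizer_singleton_iff.1 (hle K.X.d_mem) : Commute K.d y).symm

/-- All members are conjugate in the group they generate. -/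
theorem conj_in_closure {x : G} (hx : x ∈ K.cls) :
    ∃ k ∈ Subgroup.closure K.cls, k * K.d * k⁻¹ = x := by
  set B := Subgroup.closure K.cls
  have step : ∀ a ∈ K.cls, ∀ b ∈ K.cls, ¬ Commute a b → ∃ k ∈ B, k * a * k⁻¹ = b := by
    intro a ha b hb hn
    obtain ⟨i, hi⟩ := exists_conj_odd (K.sq ha) (K.sq hb) (K.odd_of_not_commute ha hb hn)
    exact ⟨_, pow_mem (mul_mem (Subgroup.subset_closure ha) (Subgroup.subset_closure hb)) _, hi⟩
  have hCB : K.C ≤ B := by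
    rw [← K.closure_nb]
    exact Subgroup.closure_mono fun z hz => hz.1
  by_cases hxd : Commute x K.d
  · by_cases e : x = K.d
    · exact ⟨1, one_mem _, by rw [e]; group⟩
    obtain ⟨y, hy, hyd⟩ := K.exists_outer
    obtain ⟨z, hz, hzy⟩ := K.exists_meet hy hyd
    obtain ⟨k₁, h₁, e₁⟩ := step _ K.d_mem_cls y hy fun h => hyd h.symm
    obtain ⟨k₂, h₂, e₂⟩ := step y hy z hz.1 hzy
    obtain ⟨c, hc, e₃⟩ := K.trans_nb hz (K.mem_nb.2 ⟨hx, e, K.mem_C.2 hxd⟩)
    refine ⟨c * k₂ * k₁, mul_mem (mul_mem (hCB hc) h₂) h₁, ?_⟩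
    rw [← e₃, ← e₂, ← e₁]; group
  · exact step _ K.d_mem_cls x hx fun h => hxd h.symm

/-- The class generates the group. -/
theorem generates : Subgroup.closure K.cls = ⊤ := by
  rw [eq_top_iff]
  intro g _
  obtain ⟨k, hk, e⟩ := K.conj_in_closure (K.conj_mem g K.d_mem_cls)
  have hc : k⁻¹ * g ∈ K.C := K.mem_C.2 (by
    show k⁻¹ * g * K.d = K.d * (k⁻¹ * g)
    have : k⁻¹ * g * K.d * (k⁻¹ * g)⁻¹ = K.d := by
      rw [show k⁻¹ * g * K.d * (k⁻¹ * g)⁻¹ = k⁻¹ * (g * K.d * g⁻¹) * k by group, ← e]; group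
    exact mul_inv_eq_iff_eq_mul.1 this)
  have hCB : K.C ≤ Subgroup.closure K.cls := by
    rw [← K.closure_nb]
    exact Subgroup.closure_mono fun z hz => hz.1
  simpa using mul_mem hk (hCB hc)

theorem isClass : Cfsg.IsThreeTranspositionClass K.cls :=
  ⟨K.isSet, ⟨K.d, K.d_mem_cls, rfl⟩, K.generates⟩

theorem isGroup : Cfsg.IsThreeTranspositionGroup K.cls :=
  ⟨K.isSet, fun g _ hd => K.conj_mem g hd, K.generates⟩

include K in
theorem center_eq_bot : Subgroup.center G = ⊥ := by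
  rw [Subgroup.eq_bot_iff_forall]
  intro z hz
  have hcz : ∀ g : G, Commute z g := fun g => ((Subgroup.mem_center_iff.1 hz g) : g * z = z * g).symm
  have hzC : z ∈ K.C := K.mem_C.2 (hcz _)
  have h := K.central_C hzC fun c _ => hcz c
  rw [K.img_eq hzC] at h
  rcases (K.X.ker _).1 h with e | e
  · exact congrArg Subtype.val e
  · exfalso
    obtain ⟨y, -, hy⟩ := K.exists_outer
    have e' : z = K.d := e
    rw [← e'] at hy
    exact hy (hcz y).symm

/-- The action on the class is primitive. -/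
theorem primitive : Cfsg.IsPrimitiveUnderConj K.cls := by
  have htr : ∀ a ∈ K.cls, ∀ b ∈ K.cls, ∃ g : G, g * a * g⁻¹ = b := by
    intro a ha b hb
    obtain ⟨g, hg⟩ := K.exists_to_d ha
    obtain ⟨k, hk⟩ := K.exists_to_d hb
    refine ⟨k⁻¹ * g, ?_⟩
    rw [show k⁻¹ * g * a * (k⁻¹ * g)⁻¹ = k⁻¹ * (g * a * g⁻¹) * k by group, hg, ← hk]
    group
  refine ⟨htr, ?_, fun B hB hblock => ?_⟩
  · obtain ⟨y, hy, hyd⟩ := K.exists_outer
    exact ⟨y, hy, K.d, K.d_mem_cls, fun e => hyd (e ▸ Commute.refl _)⟩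
  by_cases hs : B.Subsingleton
  · exact Or.inl hs
  right
  obtain ⟨b₀, hb₀, b₁, hb₁, hne⟩ : ∃ b₀ ∈ B, ∃ b₁ ∈ B, b₀ ≠ b₁ := by
    simpa [Set.Subsingleton] using hs
  obtain ⟨m, hm⟩ := K.exists_to_d (hB hb₀)
  -- move the block to one containing `d`
  set B' := (fun x => m * x * m⁻¹) '' B with hB'
  have hB's : B' ⊆ K.cls := by rintro _ ⟨x, hx, rfl⟩; exact K.conj_mem m (hB hx)
  have hblock' : ∀ g : G, ∀ a ∈ B', g * a * g⁻¹ ∈ B' → ∀ b ∈ B', g * b * g⁻¹ ∈ B' := by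
    rintro g _ ⟨a, ha, rfl⟩ ⟨a', ha', e⟩ _ ⟨b, hb, rfl⟩
    rcases hblock (m⁻¹ * g * m) with h | h
    · refine ⟨m⁻¹ * g * m * b * (m⁻¹ * g * m)⁻¹, h ▸ ⟨b, hb, rfl⟩, ?_⟩
      group
    · refine absurd ha' (Set.disjoint_left.1 h ⟨a, ha, ?_⟩)
      have e' : m * a' * m⁻¹ = g * (m * a * m⁻¹) * g⁻¹ := e
      calc m⁻¹ * g * m * a * (m⁻¹ * g * m)⁻¹ = m⁻¹ * (g * (m * a * m⁻¹) * g⁻¹) * m := by group
        _ = a' := by rw [← e']; group
  have hd : K.d ∈ B' := ⟨b₀, hb₀, hm⟩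
  have hother : ∃ y ∈ B', y ≠ K.d :=
    ⟨_, ⟨b₁, hb₁, rfl⟩, fun e => hne (mul_left_cancel (mul_right_cancel (hm.trans e.symm)))⟩
  have hCstab : ∀ c ∈ K.C, ∀ b ∈ B', c * b * c⁻¹ ∈ B' := fun c hc =>
    hblock' c _ hd ((K.d_fixed (c := ⟨c, hc⟩)).symm ▸ hd)
  obtain ⟨x, hx, hxB⟩ : ∃ x ∈ nb K.cls K.d, x ∈ B' := by
    obtain ⟨y, hy, hyd⟩ := hother
    by_cases hc : Commute y K.d
    · exact ⟨y, K.mem_nb.2 ⟨hB's hy, hyd, K.mem_C.2 hc⟩, hy⟩
    obtain ⟨x, hx, hxy⟩ := K.exists_meet (hB's hy) hc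
    refine ⟨x, hx, ?_⟩
    have hym := hB's hy
    have h1 : x * y * x ∈ B' := by
      have := hCstab x (K.mem_nb.1 hx).2.2 y hy
      rwa [K.inv hx.1] at this
    have h2 := hblock' y y hy (by rwa [mul_inv_cancel_right]) _ h1
    have hbr : x * y * x = y * x * y :=
      Basic.braid_of_cube (K.sq hx.1) (K.sq hym) (K.cube hx.1 hym fun h => hxy h.symm)
    rwa [hbr, K.inv hym, show y * (y * x * y) * y = y * y * x * (y * y) by group, K.sq hym, one_mul,
      mul_one] at h2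
  have hnbB : nb K.cls K.d ⊆ B' := fun z hz => by
    obtain ⟨c, hc, e⟩ := K.trans_nb hx hz
    exact e ▸ hCstab c hc x hxB
  have hspread : ∀ a ∈ B', ∀ b ∈ K.cls, Commute b a → b ∈ B' := by
    intro a ha b hb hc
    obtain ⟨g, hg⟩ := K.exists_to_d (hB's ha)
    by_cases e : b = a
    · exact e ▸ ha
    have h1 : g * b * g⁻¹ ∈ B' := hnbB (K.mem_nb.2 ⟨K.conj_mem g hb, hg ▸ conj_ne g e,
      K.mem_C.2 (hg ▸ Basic.commute_conj.2 hc)⟩)
    have h2 : g⁻¹ * K.d * g⁻¹⁻¹ ∈ B' := by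
      rw [← hg]
      rwa [show g⁻¹ * (g * a * g⁻¹) * g⁻¹⁻¹ = a by group]
    have h3 := hblock' g⁻¹ _ hd h2 _ h1
    rwa [show g⁻¹ * (g * b * g⁻¹) * g⁻¹⁻¹ = b by group] at h3
  have hfull : K.cls ⊆ B' := by
    intro y hy
    by_cases hc : Commute y K.d
    · exact hspread _ hd y hy hc
    · obtain ⟨q, hq, hqd, hqy⟩ := K.exists_common hy hc
      exact hspread q (hspread _ hd q hq hqd) y hy hqy.symm
  refine Set.Subset.antisymm hB fun y hy => ?_
  obtain ⟨b, hb, e⟩ := hfull (K.conj_mem m hy)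
  have : b = y := mul_left_cancel (mul_right_cancel e)
  exact this ▸ hb

/-- The local quotient. -/
theorem local_unitary :
    Nonempty (↥(Subgroup.closure (nb K.cls K.d)) ⧸ Subgroup.center ↥(Subgroup.closure (nb K.cls K.d))
      ≃* Cfsg.PSU 6 F 2) := by
  rw [K.closure_nb]
  have hker : Subgroup.center ↥K.C = K.X.f.ker := by
    ext c
    rw [MonoidHom.mem_ker]
    constructor
    · intro hc
      rw [← K.img_eq c.2]
      exact K.central_C c.2 fun g hg =>
        (congrArg Subtype.val (Subgroup.mem_center_iff.1 hc ⟨g, hg⟩) : g * (c : G) = c * g).symm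
    · intro h
      rcases (K.X.ker _).1 h with e | e
      · exact e ▸ one_mem _
      · rw [Subgroup.mem_center_iff]
        intro g
        rw [show c = K.X.dd from Subtype.ext e]
        exact K.X.dd_central g
  exact ⟨(QuotientGroup.quotientMulEquivOfEq hker).trans
    (QuotientGroup.quotientKerEquivOfSurjective K.X.f K.X.surj)⟩

/-- The order of the centraliser. -/
theorem card_C : Nat.card ↥K.C = 2 * Nat.card (Cfsg.PSU 6 F 2) := by
  have h := K.X.card_comap (⊤ : Subgroup (Cfsg.PSU 6 F 2))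
  rwa [Subgroup.comap_top, Subgroup.card_top, Subgroup.card_top] at h

end Ctx

end Cfsg.Agent.ThreeTransp.U62Class
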