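import Cfsg.Agent.Lib.ThreeTransp.U62Class.Triples

/-!
Two commuting members are determined by their product.
-/

set_option autoImplicit false
set_option linter.unusedSectionVars false
set_option linter.style.haveILetI false

namespace Cfsg.Agent.ThreeTransp.U62Class

/-- Conjugating one involution to the other inside the dihedral group of odd order product. -/
theorem exists_conj_odd {G : Type*} [Group G] {a b : G} (ha : a * a = 1) (hb : b * b = 1)
    (h : Odd (orderOf (a * b))) : ∃ i : ℕ, (a * b) ^ i * a * ((a * b) ^ i)⁻¹ = b := by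
  obtain ⟨j, hj⟩ := h
  refine ⟨j, ?_⟩
  have hai : a⁻¹ = a := inv_eq_of_mul_eq_one_right ha
  have hbi : b⁻¹ = b := inv_eq_of_mul_eq_one_right hb
  have hc : a * ((a * b) ^ j)⁻¹ * a⁻¹ = (a * b) ^ j := by
    rw [← inv_pow, ← conj_pow, _root_.mul_inv_rev, hai, hbi]
    congr 1
    rw [← mul_assoc, mul_assoc _ a a, ha, mul_one]
  have h1 : (a * b) ^ j * (a * b) ^ j * (a * b) = 1 := by
    rw [← pow_add, ← pow_succ, show j + j + 1 = 2 * j + 1 by omega, ← hj, pow_orderOf_eq_one]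
  calc (a * b) ^ j * a * ((a * b) ^ j)⁻¹
      = (a * b) ^ j * (a * ((a * b) ^ j)⁻¹ * a⁻¹) * a := by group
    _ = (a * b)⁻¹ * a := by rw [hc, eq_inv_of_mul_eq_one_left h1]
    _ = b := by rw [_root_.mul_inv_rev, inv_mul_cancel_right, hbi]

/-- The central involution of a dihedral group with product of order twice an odd number. -/
theorem exists_conj_middle {G : Type*} [Group G] {a b : G} (ha : a * a = 1) (hb : b * b = 1)
    {r : ℕ} (hr : Odd r) (hn : orderOf (a * b) = 2 * r) :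
    (a * b) ^ r * (a * b) ^ r = 1 ∧ Commute a ((a * b) ^ r) ∧ Commute b ((a * b) ^ r) ∧
      ∃ i : ℕ, ((a * b) ^ i)⁻¹ * a * (a * b) ^ i = b * (a * b) ^ r := by
  have hai : a⁻¹ = a := inv_eq_of_mul_eq_one_right ha
  have hbi : b⁻¹ = b := inv_eq_of_mul_eq_one_right hb
  have hinv : ∀ k : ℕ, a * (a * b) ^ k * a⁻¹ = ((a * b) ^ k)⁻¹ := fun k => by
    rw [← conj_pow, ← inv_pow, _root_.mul_inv_rev, hai, hbi]
    congr 1
    rw [← mul_assoc, ha, one_mul]
  have h2 : (a * b) ^ r * (a * b) ^ r = 1 := by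
    rw [← pow_add, ← two_mul, ← hn, pow_orderOf_eq_one]
  have hca : Commute a ((a * b) ^ r) := by
    have := hinv r
    rw [inv_eq_of_mul_eq_one_right h2, mul_inv_eq_iff_eq_mul] at this
    exact this
  have hcb : Commute b ((a * b) ^ r) := by
    have e : b = a * (a * b) := by rw [← mul_assoc, ha, one_mul]
    have h : Commute (a * (a * b)) ((a * b) ^ r) := hca.mul_left ((Commute.refl _).pow_right r)
    rwa [← e] at h
  refine ⟨h2, hca, hcb, ?_⟩
  obtain ⟨k, hk⟩ := hr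
  refine ⟨k + 1, ?_⟩
  calc ((a * b) ^ (k + 1))⁻¹ * a * (a * b) ^ (k + 1)
      = (a * (a * b) ^ (k + 1) * a⁻¹) * a * (a * b) ^ (k + 1) := by rw [hinv]
    _ = a * ((a * b) ^ (k + 1) * (a * b) ^ (k + 1)) := by group
    _ = a * ((a * b) * (a * b) ^ r) := by
      rw [← pow_add, ← pow_succ', hk, show k + 1 + (k + 1) = 2 * k + 1 + 1 by omega]
    _ = _ := by rw [← mul_assoc, ← mul_assoc a a, ha, one_mul]

variable {G F : Type*} [Group G] [Finite G] [Field F] [Fintype F] (K : Ctx G F)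

namespace Ctx

theorem P2_mem_A {z : G} (hz : z ∈ K.P2) : z ∈ K.A := by
  obtain ⟨a, ha, b, hb, -, rfl⟩ := hz
  exact mul_mem ha.1 hb.1

/-- The local statement at a third member. -/
theorem local_pair {u w p : G} (hu : u ∈ K.L) (hud : u ≠ K.d) (hw : w ∈ K.L) (hwd : w ≠ K.d)
    (hwu : w ≠ u) (hp : p ∈ K.cls) (hpw : Commute p w) (hpz : Commute p (K.d * u))
    (hq : p * (K.d * u) ∈ K.cls) : p = K.d ∨ p = u := by
  have hwz : w * (K.d * u) ∉ K.cls := by
    rw [← mul_assoc]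
    exact K.T3_notMem ⟨w, hw, _, K.d_mem_L, u, hu, hwd, hwu, Ne.symm hud, rfl⟩
  set q := p * (K.d * u) with hqd
  have hzw : Commute (K.d * u) w := (K.L_commute K.d_mem_L hw).mul_left (K.L_commute hu hw)
  have hzz : K.d * u * (K.d * u) = 1 := K.X.sq_A (mul_mem K.X.d_mem_A hu.1)
  have hpne : p ≠ w := fun e => hwz (e ▸ hq)
  have hqne : q ≠ w := fun e => hwz (by
    rw [← e, hqd, mul_assoc, hzz, mul_one]; exact hp)
  obtain ⟨n, hn, en⟩ := K.exists_move hw
  obtain ⟨m, hm⟩ : ∃ m, m = n⁻¹ := ⟨_, rfl⟩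
  have hmn : m ∈ K.N := hm ▸ inv_mem hn
  have em : m * w * m⁻¹ = K.d := by rw [hm, ← en]; group
  have hC : ∀ x, Commute x w → m * x * m⁻¹ ∈ K.C := fun x hx =>
    K.mem_C.2 (em ▸ Basic.commute_conj.2 hx)
  have hpC := hC p hpw
  have hqC := hC q (hpw.mul_left hzw)
  have hd' := K.mem_L_conj hmn K.d_mem_L
  have hu' := K.mem_L_conj hmn hu
  have hne : ∀ {x : G}, x ≠ w → m * x * m⁻¹ ≠ K.d := fun h => em ▸ conj_ne m h
  obtain ⟨v₁, hv₁, hv₁0, e₁⟩ := K.exists_vec hpC (K.conj_mem m hp) (hne hpne)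
  obtain ⟨v₂, hv₂, hv₂0, e₂⟩ := K.exists_vec hqC (K.conj_mem m hq) (hne hqne)
  obtain ⟨v₃, hv₃, hv₃0, e₃⟩ := K.vecL hd' (hne (Ne.symm hwd))
  obtain ⟨v₄, hv₄, hv₄0, e₄⟩ := K.vecL hu' (hne (Ne.symm hwu))
  have hpq : Commute p q := (Commute.refl p).mul_right hpz
  have h12 : Commute (K.img (m * p * m⁻¹)) (K.img (m * q * m⁻¹)) :=
    (K.commute_iff hpC (K.conj_mem m hp) hqC (K.conj_mem m hq)).1 (Basic.commute_conj.2 hpq)
  have hne12 : K.img (m * p * m⁻¹) ≠ K.img (m * q * m⁻¹) := fun e => by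
    have h := mul_left_cancel (mul_right_cancel
      (K.img_inj hpC (K.conj_mem m hp) hqC (K.conj_mem m hq) e))
    rw [hqd, left_eq_mul] at h
    exact K.pair_ne_one K.d_mem_L (Ne.symm hud) h
  have hprod : Linear.P K.hF hv₁ * Linear.P K.hF hv₂ = Linear.P K.hF hv₃ * Linear.P K.hF hv₄ := by
    rw [← e₁, ← e₂, ← e₃, ← e₄, ← K.img_mul hpC hqC, ← K.img_mul (K.L_mem_C hd') (K.L_mem_C hu')]
    congr 1
    rw [show m * p * m⁻¹ * (m * q * m⁻¹) = m * (p * q) * m⁻¹ by group, hqd, ← mul_assoc p p,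
      K.sq hp, one_mul]
    group
  rcases Linear.pair_eq K.hF hv₁ hv₂ hv₃ hv₄ hv₁0 hv₂0 hv₃0 hv₄0
    ((Linear.P_commute_iff K.hF hv₁ hv₂ hv₁0 hv₂0).1 (e₁ ▸ e₂ ▸ h12))
    ((Linear.P_commute_iff K.hF hv₃ hv₄ hv₃0 hv₄0).1 (e₃ ▸ e₄ ▸ K.img_commute hd' hu'))
    (e₁ ▸ e₂ ▸ hne12) (e₃ ▸ e₄ ▸ K.img_ne hd' hu' (conj_ne m (Ne.symm hud))) hprod with
    ⟨h, -⟩ | ⟨-, h⟩
  · left
    exact mul_left_cancel (mul_right_cancel (K.img_inj hpC (K.conj_mem m hp) (K.L_mem_C hd') hd'.2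
      (by rw [e₁, e₃]; exact h.symm)))
  · right
    exact mul_left_cancel (mul_right_cancel (K.img_inj hpC (K.conj_mem m hp) (K.L_mem_C hu') hu'.2
      (by rw [e₁, e₄]; exact h.symm)))

/-- A pair with the product of `d` and `u` is that pair. -/
theorem pair_core {u a b : G} (hu : u ∈ K.L) (hud : u ≠ K.d) (ha : a ∈ K.cls) (hb : b ∈ K.cls)
    (hab : Commute a b) (h : a * b = K.d * u) : (a = K.d ∧ b = u) ∨ (a = u ∧ b = K.d) := by
  classical
  set z := K.d * u with hz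
  have hzA : z ∈ K.A := mul_mem K.X.d_mem_A hu.1
  have hzz : z * z = 1 := K.X.sq_A hzA
  have haz : Commute a z := h ▸ (Commute.refl a).mul_right hab
  have hbz : Commute b z := h ▸ hab.symm.mul_right (Commute.refl b)
  have hb' : b = a * z := by rw [← h, ← mul_assoc, K.sq ha, one_mul]
  have key : ∀ w : G, w ∈ K.L → w ≠ K.d → w ≠ u → ∃ q ∈ K.cls, Commute q a ∧ Commute q b ∧
      (a * q = K.d * w ∨ b * q = K.d * w) := by
    intro w hw hwd hwu
    have hwz : Commute w z := (K.L_commute hw K.d_mem_L).mul_right (K.L_commute hw hu)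
    have hwz' : w * z ∉ K.cls := by
      rw [hz, ← mul_assoc]
      exact K.T3_notMem ⟨w, hw, _, K.d_mem_L, u, hu, hwd, hwu, Ne.symm hud, rfl⟩
    have hpow : ∀ i : ℕ, Commute ((a * w) ^ i) z := fun i => (haz.mul_left hwz).pow_left i
    have heven : Even (orderOf (a * w)) := by
      rw [← Nat.not_odd_iff_even]
      intro ho
      obtain ⟨i, hi⟩ := exists_conj_odd (K.sq ha) (K.sq hw.2) ho
      refine hwz' ?_
      set k := (a * w) ^ i
      have e : w * z = k * b * k⁻¹ := by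
        rw [hb', ← hi]
        calc k * a * k⁻¹ * z = k * a * (k⁻¹ * z) := by group
          _ = k * a * (z * k⁻¹) := by rw [(hpow i).inv_left.eq]
          _ = _ := by group
      exact e ▸ K.conj_mem k hb
    obtain ⟨r, hr⟩ := heven
    have hr2 : orderOf (a * w) = 2 * r := by omega
    have hrodd : Odd r := by
      rw [← Nat.not_even_iff_odd]
      rintro ⟨s, hs⟩
      exact K.four_not_dvd ha hw.2 ⟨s, by omega⟩
    obtain ⟨hc2, hca, hcw, i, hi⟩ := exists_conj_middle (K.sq ha) (K.sq hw.2) hrodd hr2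
    set c := (a * w) ^ r with hc
    have hp : w * c ∈ K.cls := by
      rw [← hi]
      have h' := K.conj_mem ((a * w) ^ i)⁻¹ ha
      rwa [inv_inv] at h'
    have hpz : Commute (w * c) z := hwz.mul_left (hpow r)
    have hq : w * c * z ∈ K.cls := by
      rw [← hi]
      set k := (a * w) ^ i
      have e : k⁻¹ * a * k * z = k⁻¹ * b * k⁻¹⁻¹ := by
        rw [hb', inv_inv]
        calc k⁻¹ * a * k * z = k⁻¹ * a * (k * z) := by group
          _ = k⁻¹ * a * (z * k) := by rw [(hpow i).eq]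
          _ = _ := by group
      rw [e]
      exact K.conj_mem _ hb
    have hac : a * c ∈ K.cls := Dihedral.mem_of_mul_pow (fun g _ hd => K.conj_mem g hd)
      (K.orderOf_mem ha) (K.orderOf_mem hw.2) ha hw.2 r
    have hcaz : Commute (a * c) z := haz.mul_left (hpow r)
    have hqa : Commute (a * c) a := (Commute.refl a).mul_left hca.symm
    refine ⟨a * c, hac, hqa, hb' ▸ hqa.mul_right hcaz, ?_⟩
    rcases K.local_pair hu hud hw hwd hwu hp ((Commute.refl w).mul_left hcw.symm) hpz hq with e | e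
    · left
      have e' : c = w * K.d := by rw [← e, ← mul_assoc, K.L_sq hw, one_mul]
      rw [← mul_assoc, K.sq ha, one_mul, e', (K.L_commute hw K.d_mem_L).eq]
    · right
      have e' : c = w * u := by rw [← e, ← mul_assoc, K.L_sq hw, one_mul]
      rw [hb', ← mul_assoc, mul_assoc a z a, ← haz.eq, ← mul_assoc a a, K.sq ha, one_mul, e', hz,
        mul_assoc, (K.L_commute hw hu).eq, ← mul_assoc u u, K.L_sq hu, one_mul]
  choose q hqm hqa hqb hqe using key
  set S : Set G := {a, b} ∪ {x | ∃ w h1 h2 h3, q w h1 h2 h3 = x} with hS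
  have hqq : ∀ w h1 h2 h3 w' h1' h2' h3', Commute (q w h1 h2 h3) (q w' h1' h2' h3') := by
    intro w h1 h2 h3 w' h1' h2' h3'
    set p := q w h1 h2 h3
    set p' := q w' h1' h2' h3'
    suffices hA : p * p' ∈ K.A from
      (Basic.sq_prod_eq_one_iff (K.sq (hqm w h1 h2 h3)) (K.sq (hqm w' h1' h2' h3'))).1
        (by rw [pow_two]; exact K.X.sq_A hA)
    have hdw : K.d * w ∈ K.A := mul_mem K.X.d_mem_A h1.1
    have hdw' : K.d * w' ∈ K.A := mul_mem K.X.d_mem_A h1'.1
    have hab' : a * b ∈ K.A := h ▸ hzA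
    have hba' : b * a ∈ K.A := hab.eq ▸ hab'
    rcases hqe w h1 h2 h3 with e | e <;> rcases hqe w' h1' h2' h3' with e' | e'
    · have he : p * p' = (a * p) * (a * p') := by
        rw [← (hqa w h1 h2 h3).eq, mul_assoc p a, ← mul_assoc a a, K.sq ha, one_mul]
      rw [he, e, e']; exact mul_mem hdw hdw'
    · have he : p * p' = (b * a) * ((a * p) * (b * p')) := by
        rw [show b * a * (a * p * (b * p')) = b * (a * a) * p * b * p' by group, K.sq ha, mul_one,
          ← (hqb w h1 h2 h3).eq, mul_assoc p b b, K.sq hb, mul_one]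
      rw [he, e, e']; exact mul_mem hba' (mul_mem hdw hdw')
    · have he : p * p' = (a * b) * ((b * p) * (a * p')) := by
        rw [show a * b * (b * p * (a * p')) = a * (b * b) * p * a * p' by group, K.sq hb, mul_one,
          ← (hqa w h1 h2 h3).eq, mul_assoc p a a, K.sq ha, mul_one]
      rw [he, e, e']; exact mul_mem hab' (mul_mem hdw hdw')
    · have he : p * p' = (b * p) * (b * p') := by
        rw [← (hqb w h1 h2 h3).eq, mul_assoc p b, ← mul_assoc b b, K.sq hb, one_mul]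
      rw [he, e, e']; exact mul_mem hdw hdw'
  have hcomm : ∀ x ∈ S, ∀ y ∈ S, x * y = y * x := by
    rintro x ((rfl | rfl) | ⟨w, h1, h2, h3, rfl⟩) y ((rfl | rfl) | ⟨w', h1', h2', h3', rfl⟩)
    exacts [rfl, hab.eq, (hqa _ _ _ _).eq.symm, hab.eq.symm, rfl, (hqb _ _ _ _).eq.symm,
      (hqa _ _ _ _).eq, (hqb _ _ _ _).eq, (hqq _ _ _ _ _ _ _ _).eq]
  have hcls : ∀ x ∈ S, x ∈ K.cls := by
    rintro x ((rfl | rfl) | ⟨w, h1, h2, h3, rfl⟩)
    exacts [ha, hb, hqm _ _ _ _]
  have hP : IsPGroup 2 ↥(Subgroup.closure S) := by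
    have hc2 := Subgroup.isMulCommutative_closure hcomm
    intro x
    refine ⟨1, ?_⟩
    rw [pow_one, pow_two]
    obtain ⟨x, hx⟩ := x
    apply Subtype.ext
    show x * x = 1
    induction hx using Subgroup.closure_induction with
    | mem x hx => exact K.sq (hcls x hx)
    | one => rw [one_mul]
    | mul p r hp hr ihp ihr =>
      have : p * r = r * p := congrArg Subtype.val (hc2.is_comm.comm ⟨p, hp⟩ ⟨r, hr⟩)
      rw [(show Commute r p from this.symm).mul_mul_mul_comm, ihp, ihr, one_mul]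
    | inv p _ ihp => rw [← _root_.mul_inv_rev, ihp, inv_one]
  obtain ⟨g, hg⟩ := K.exists_clique hP
  have hgS : ∀ x ∈ S, g * x * g⁻¹ ∈ K.A := fun x hx =>
    (hg x (Subgroup.subset_closure hx) (hcls x hx)).1
  have ha' := hgS a (Or.inl (Or.inl rfl))
  have hb'' := hgS b (Or.inl (Or.inr rfl))
  set A' := K.A.comap (MulAut.conj g).toMonoidHom with hA'
  have hdpair : ∀ w ∈ K.L, K.d * w ∈ A' := by
    intro w hw
    show g * (K.d * w) * g⁻¹ ∈ K.A
    by_cases hwd : w = K.d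
    · rw [hwd, K.X.d_sq, mul_one, mul_inv_cancel]; exact one_mem _
    by_cases hwu : w = u
    · rw [hwu, ← hz, ← h, show g * (a * b) * g⁻¹ = g * a * g⁻¹ * (g * b * g⁻¹) by group]
      exact mul_mem ha' hb''
    have hq' := hgS (q w hw hwd hwu) (Or.inr ⟨w, hw, hwd, hwu, rfl⟩)
    rcases hqe w hw hwd hwu with e | e <;> rw [← e]
    · rw [show g * (a * q w hw hwd hwu) * g⁻¹ = g * a * g⁻¹ * (g * q w hw hwd hwu * g⁻¹) by group]
      exact mul_mem ha' hq'
    · rw [show g * (b * q w hw hwd hwu) * g⁻¹ = g * b * g⁻¹ * (g * q w hw hwd hwu * g⁻¹) by group]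
      exact mul_mem hb'' hq'
  have hAA' : K.A ≤ A' := K.closure_P2.trans ((Subgroup.closure_le _).2 (by
    rintro _ ⟨x, hx, y, hy, -, rfl⟩
    have e : x * y = (K.d * x) * (K.d * y) := by
      rw [K.X.comm_A K.X.d_mem_A hx.1, mul_assoc, ← mul_assoc K.d, K.X.d_sq, one_mul]
    rw [e]
    exact mul_mem (hdpair x hx) (hdpair y hy)))
  have hgN : g ∈ K.N := K.mem_normalizer_of fun x hx => hAA' hx.1
  have haL : a ∈ K.L := (K.conj_L hgN a).1 ⟨ha', K.conj_mem g ha⟩
  have hbL : b ∈ K.L := (K.conj_L hgN b).1 ⟨hb'', K.conj_mem g hb⟩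
  exact K.pair_eq' K.d_mem_L hu haL hbL (Ne.symm hud) h.symm

/-- Commuting members are determined by their product. -/
theorem pair_unique {a b x y : G} (ha : a ∈ K.cls) (hb : b ∈ K.cls) (hx : x ∈ K.cls)
    (hy : y ∈ K.cls) (hab : Commute a b) (hne : a ≠ b) (h : a * b = x * y) :
    (x = a ∧ y = b) ∨ (x = b ∧ y = a) := by
  obtain ⟨g, ga, gb⟩ := K.exists_pair_to ha hb hab
  have hxy : Commute x y := (Basic.sq_prod_eq_one_iff (K.sq hx) (K.sq hy)).1 (by
    rw [← h, (Basic.sq_prod_eq_one_iff (K.sq ha) (K.sq hb))]; exact hab)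
  rcases K.pair_core gb (ga ▸ conj_ne g (Ne.symm hne)) (K.conj_mem g hx) (K.conj_mem g hy)
    (Basic.commute_conj.2 hxy) (by
      rw [← ga, show g * x * g⁻¹ * (g * y * g⁻¹) = g * (x * y) * g⁻¹ by group, ← h]; group) with
    ⟨e1, e2⟩ | ⟨e1, e2⟩
  · rw [← ga] at e1
    exact Or.inl ⟨mul_left_cancel (mul_right_cancel e1), mul_left_cancel (mul_right_cancel e2)⟩
  · rw [← ga] at e2
    exact Or.inr ⟨mul_left_cancel (mul_right_cancel e1), mul_left_cancel (mul_right_cancel e2)⟩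

/-- The product of non-commuting members has odd order. -/
theorem odd_of_not_commute {x y : G} (hx : x ∈ K.cls) (hy : y ∈ K.cls) (h : ¬ Commute x y) :
    Odd (orderOf (x * y)) := by
  rw [← Nat.not_even_iff_odd]
  rintro ⟨r, hr⟩
  have hrodd : Odd r := by
    rw [← Nat.not_even_iff_odd]
    rintro ⟨s, hs⟩
    exact K.four_not_dvd hx hy ⟨s, by omega⟩
  obtain ⟨hc2, hcx, hcy, -, -⟩ := exists_conj_middle (K.sq hx) (K.sq hy) hrodd (by omega)
  set c := (x * y) ^ r with hc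
  have hconj : ∀ g : G, ∀ d ∈ K.cls, g * d * g⁻¹ ∈ K.cls := fun g _ hd => K.conj_mem g hd
  have hxc : x * c ∈ K.cls :=
    Dihedral.mem_of_mul_pow hconj (K.orderOf_mem hx) (K.orderOf_mem hy) hx hy r
  have hyc : y * c ∈ K.cls := by
    have e : c = (y * x) ^ r := by
      rw [← inv_eq_of_mul_eq_one_right hc2, hc, ← inv_pow, _root_.mul_inv_rev, K.inv hx, K.inv hy]
    rw [e]
    exact Dihedral.mem_of_mul_pow hconj (K.orderOf_mem hy) (K.orderOf_mem hx) hy hx r
  have hc1 : c ≠ 1 := by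
    intro e
    have hpos : 0 < orderOf (x * y) := orderOf_pos _
    have := Nat.le_of_dvd (by omega) (orderOf_dvd_of_pow_eq_one e)
    omega
  rcases K.pair_unique hx hxc hy hyc ((Commute.refl x).mul_right hcx)
    (fun e => hc1 (left_eq_mul.1 e)) (by
      rw [← mul_assoc, K.sq hx, ← mul_assoc, K.sq hy]) with ⟨e, -⟩ | ⟨e, -⟩
  · exact h (e ▸ Commute.refl x)
  · exact h (e ▸ (Commute.refl x).mul_right hcx)

/-- Members of a subgroup which are not conjugate in it commute. -/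
theorem commute_of_not_conj {x y : G} (hx : x ∈ K.cls) (hy : y ∈ K.cls) {M : Subgroup G}
    (hxM : x ∈ M) (hyM : y ∈ M) (h : ∀ g ∈ M, g * x * g⁻¹ ≠ y) : Commute x y := by
  by_contra hn
  obtain ⟨i, hi⟩ := exists_conj_odd (K.sq hx) (K.sq hy) (K.odd_of_not_commute hx hy hn)
  exact h _ (pow_mem (mul_mem hxM hyM) i) hi

end Ctx

end Cfsg.Agent.ThreeTransp.U62Class
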