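import Cfsg.Agent.Lib.ThreeTransp.U62Class.Even

/-!
The 1023 non-trivial elements of the large elementary abelian subgroup are the 22 members, their 231
pair products and 770 triple products.
-/

set_option autoImplicit false
set_option linter.unusedSectionVars false
set_option linter.style.haveILetI false

namespace Cfsg.Agent.ThreeTransp.U62Class

variable {G F : Type*} [Group G] [Finite G] [Field F] [Fintype F] (K : Ctx G F)

namespace Ctx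

/-- The pair products. -/
def P2 : Set G := {z | ∃ a ∈ K.L, ∃ b ∈ K.L, a ≠ b ∧ a * b = z}

/-- The triple products. -/
def T3 : Set G :=
  {z | ∃ a ∈ K.L, ∃ b ∈ K.L, ∃ c ∈ K.L, a ≠ b ∧ a ≠ c ∧ b ≠ c ∧ a * b * c = z}

theorem conj_eq_d {a : G} (n : G) {b : G} (e : n * a * n⁻¹ = K.d) (h : n * b * n⁻¹ = K.d) :
    b = a :=
  mul_left_cancel (mul_right_cancel (h.trans e.symm))

theorem conj_ne {a b : G} (n : G) (h : a ≠ b) : n * a * n⁻¹ ≠ n * b * n⁻¹ := fun e =>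
  h (mul_left_cancel (mul_right_cancel e))

theorem mem_L_conj {n x : G} (hn : n ∈ K.N) (hx : x ∈ K.L) : n * x * n⁻¹ ∈ K.L :=
  (K.conj_L hn x).2 hx

/-- The centres of the members other than `d`. -/
theorem vecL {u : G} (hu : u ∈ K.L) (hud : u ≠ K.d) :
    ∃ (v : Fin 6 → F) (hv : Cfsg.hermForm 6 F 2 v v = 0), v ≠ 0 ∧ K.img u = Linear.P K.hF hv :=
  K.exists_vec (K.L_mem_C hu) hu.2 hud

theorem img_ne {u v : G} (hu : u ∈ K.L) (hv : v ∈ K.L) (h : u ≠ v) : K.img u ≠ K.img v :=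
  fun e => h (K.img_inj (K.L_mem_C hu) hu.2 (K.L_mem_C hv) hv.2 e)

theorem img_commute {u v : G} (hu : u ∈ K.L) (hv : v ∈ K.L) : Commute (K.img u) (K.img v) :=
  (K.commute_iff (K.L_mem_C hu) hu.2 (K.L_mem_C hv) hv.2).1 (K.L_commute hu hv)

theorem img_pair_eq {u v x y : G} (hu : u ∈ K.L) (hv : v ∈ K.L) (hx : x ∈ K.L) (hy : y ∈ K.L)
    (hud : u ≠ K.d) (hvd : v ≠ K.d) (hxd : x ≠ K.d) (hyd : y ≠ K.d) (huv : u ≠ v) (hxy : x ≠ y)
    (h : K.img u * K.img v = K.img x * K.img y) : (x = u ∧ y = v) ∨ (x = v ∧ y = u) := by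
  obtain ⟨p, hp, hp0, ep⟩ := K.vecL hu hud
  obtain ⟨q, hq, hq0, eq⟩ := K.vecL hv hvd
  obtain ⟨r, hr, hr0, er⟩ := K.vecL hx hxd
  obtain ⟨s, hs, hs0, es⟩ := K.vecL hy hyd
  have hpq := (Linear.P_commute_iff K.hF hp hq hp0 hq0).1 (ep ▸ eq ▸ K.img_commute hu hv)
  have hrs := (Linear.P_commute_iff K.hF hr hs hr0 hs0).1 (er ▸ es ▸ K.img_commute hx hy)
  rcases Linear.pair_eq K.hF hp hq hr hs hp0 hq0 hr0 hs0 hpq hrs (ep ▸ eq ▸ K.img_ne hu hv huv)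
    (er ▸ es ▸ K.img_ne hx hy hxy) (by rw [← ep, ← eq, ← er, ← es]; exact h) with ⟨h1, h2⟩ | ⟨h1, h2⟩
  · exact Or.inl ⟨by_contra fun e => K.img_ne hx hu e (by rw [er, ep]; exact h1),
      by_contra fun e => K.img_ne hy hv e (by rw [es, eq]; exact h2)⟩
  · exact Or.inr ⟨by_contra fun e => K.img_ne hx hv e (by rw [er, eq]; exact h1),
      by_contra fun e => K.img_ne hy hu e (by rw [es, ep]; exact h2)⟩

theorem img_pair_ne {u v : G} (hu : u ∈ K.L) (hv : v ∈ K.L) (hud : u ≠ K.d) (hvd : v ≠ K.d)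
    (huv : u ≠ v) {x : G} (hx : x ∈ K.L) (hxd : x ≠ K.d) :
    K.img u * K.img v ≠ K.img x := by
  obtain ⟨p, hp, hp0, ep⟩ := K.vecL hu hud
  obtain ⟨q, hq, hq0, eq⟩ := K.vecL hv hvd
  obtain ⟨r, hr, hr0, er⟩ := K.vecL hx hxd
  have hpq := (Linear.P_commute_iff K.hF hp hq hp0 hq0).1 (ep ▸ eq ▸ K.img_commute hu hv)
  rw [ep, eq, er]
  exact Linear.pair_ne K.hF hp hq hr hp0 hq0 hr0 hpq (ep ▸ eq ▸ K.img_ne hu hv huv)

theorem img_pair_ne_one {u v : G} (hu : u ∈ K.L) (hv : v ∈ K.L) (huv : u ≠ v) :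
    K.img u * K.img v ≠ 1 := by
  intro h
  refine K.img_ne hu hv huv ?_
  have h2 : K.img v * K.img v = 1 := by
    rw [← K.img_mul (K.L_mem_C hv) (K.L_mem_C hv), K.sq hv.2, K.img_eq (one_mem _)]
    exact map_one _
  exact mul_right_cancel (h.trans h2.symm)

theorem L_sq {u : G} (hu : u ∈ K.L) : u * u = 1 := K.sq hu.2

/-- Pair products are not members. -/
theorem pair_notMem {a b : G} (ha : a ∈ K.L) (hb : b ∈ K.L) (hne : a ≠ b) : a * b ∉ K.L := by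
  intro h
  obtain ⟨n, hn, e⟩ := K.exists_move ha
  obtain ⟨m, hm⟩ : ∃ m, m = n⁻¹ := ⟨_, rfl⟩
  have hmn : m ∈ K.N := hm ▸ inv_mem hn
  have ea : m * a * m⁻¹ = K.d := by rw [hm, ← e]; group
  have hu := K.mem_L_conj hmn hb
  have hud : m * b * m⁻¹ ≠ K.d := ea ▸ conj_ne m (Ne.symm hne)
  have hw := K.mem_L_conj hmn h
  rw [show m * (a * b) * m⁻¹ = (m * a * m⁻¹) * (m * b * m⁻¹) by group, ea] at hw
  set u := m * b * m⁻¹
  have hwd : K.d * u ≠ K.d := fun e => K.ne_one hu.2 (mul_eq_left.1 e)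
  have := K.img_inj (K.L_mem_C hw) hw.2 (K.L_mem_C hu) hu.2 (by
    rw [K.img_mul K.X.d_mem (K.L_mem_C hu), K.img_d, one_mul])
  exact K.ne_one K.d_mem_cls (mul_eq_right.1 this)

theorem pair_ne_one {a b : G} (ha : a ∈ K.L) (hne : a ≠ b) : a * b ≠ 1 := fun h =>
  hne ((inv_eq_of_mul_eq_one_right h).symm.trans (K.inv ha.2)).symm

/-- Pair products determine the pair. -/
theorem pair_eq' {a b x y : G} (ha : a ∈ K.L) (hb : b ∈ K.L) (hx : x ∈ K.L) (hy : y ∈ K.L)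
    (hne : a ≠ b) (h : a * b = x * y) : (x = a ∧ y = b) ∨ (x = b ∧ y = a) := by
  have hxy : x ≠ y := fun e => K.pair_ne_one ha hne (h.trans (by rw [e, K.L_sq hy]))
  by_cases e1 : x = a
  · exact Or.inl ⟨e1, (mul_left_cancel (h.trans (by rw [e1]))).symm⟩
  by_cases e2 : y = a
  · refine Or.inr ⟨(mul_left_cancel (a := a) (h.trans ?_)).symm, e2⟩
    rw [e2, (K.L_commute hx ha).eq]
  exfalso
  obtain ⟨n, hn, e⟩ := K.exists_move ha
  obtain ⟨m, hm⟩ : ∃ m, m = n⁻¹ := ⟨_, rfl⟩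
  have hmn : m ∈ K.N := hm ▸ inv_mem hn
  have ea : m * a * m⁻¹ = K.d := by rw [hm, ← e]; group
  have hu := K.mem_L_conj hmn hb
  have hp := K.mem_L_conj hmn hx
  have hq := K.mem_L_conj hmn hy
  have h' : m * a * m⁻¹ * (m * b * m⁻¹) = m * x * m⁻¹ * (m * y * m⁻¹) := by
    rw [show m * a * m⁻¹ * (m * b * m⁻¹) = m * (a * b) * m⁻¹ by group, h]; group
  rw [ea] at h'
  have h2 := congrArg K.img h'
  rw [K.img_mul K.X.d_mem (K.L_mem_C hu), K.img_d, one_mul,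
    K.img_mul (K.L_mem_C hp) (K.L_mem_C hq)] at h2
  exact K.img_pair_ne hp hq (ea ▸ conj_ne m e1) (ea ▸ conj_ne m e2) (conj_ne m hxy) hu
    (ea ▸ conj_ne m (Ne.symm hne)) h2.symm

/-- Triples with a common member and the same product. -/
theorem triple_share {a b c x y : G} (hb : b ∈ K.L) (hc : c ∈ K.L) (hx : x ∈ K.L) (hy : y ∈ K.L)
    (hbc : b ≠ c) (h : a * b * c = a * x * y) : (x = b ∧ y = c) ∨ (x = c ∧ y = b) :=
  K.pair_eq' hb hc hx hy hbc (by simpa [mul_assoc] using h)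

/-- Triple products are not members. -/
theorem triple_notMem {a b c : G} (ha : a ∈ K.L) (hb : b ∈ K.L) (hc : c ∈ K.L) (hab : a ≠ b)
    (hac : a ≠ c) (hbc : b ≠ c) : a * b * c ∉ K.L := by
  intro h
  have e : a * b = a * b * c * c := by rw [mul_assoc (a * b), K.L_sq hc, mul_one]
  rcases K.pair_eq' ha hb h hc hab e with ⟨-, e2⟩ | ⟨-, e2⟩
  · exact hbc e2.symm
  · exact hac e2.symm

theorem triple_ne_one {a b c : G} (ha : a ∈ K.L) (hb : b ∈ K.L) (hc : c ∈ K.L) (hab : a ≠ b) :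
    a * b * c ≠ 1 := fun h => K.pair_notMem ha hb hab (by
  rwa [← inv_inv (a * b), inv_eq_of_mul_eq_one_right h, K.inv hc.2])

/-- Triple products are not pair products. -/
theorem triple_ne_pair {a b c x y : G} (ha : a ∈ K.L) (hb : b ∈ K.L) (hc : c ∈ K.L) (hab : a ≠ b)
    (hac : a ≠ c) (hbc : b ≠ c) (hx : x ∈ K.L) (hy : y ∈ K.L) : a * b * c ≠ x * y := by
  intro h
  by_cases hxy : x = y
  · exact K.triple_ne_one ha hb hc hab (h.trans (by rw [hxy, K.L_sq hy]))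
  by_cases e1 : x = a
  · subst e1
    exact K.pair_notMem hb hc hbc ((mul_left_cancel ((mul_assoc _ _ _).symm.trans h)).symm ▸ hy)
  by_cases e2 : y = a
  · subst e2
    rw [(K.L_commute hx ha).eq] at h
    exact K.pair_notMem hb hc hbc ((mul_left_cancel ((mul_assoc _ _ _).symm.trans h)).symm ▸ hx)
  obtain ⟨n, hn, e⟩ := K.exists_move ha
  obtain ⟨m, hm⟩ : ∃ m, m = n⁻¹ := ⟨_, rfl⟩
  have hmn : m ∈ K.N := hm ▸ inv_mem hn
  have ea : m * a * m⁻¹ = K.d := by rw [hm, ← e]; group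
  have hu := K.mem_L_conj hmn hb
  have hv := K.mem_L_conj hmn hc
  have hp := K.mem_L_conj hmn hx
  have hq := K.mem_L_conj hmn hy
  have h' : m * a * m⁻¹ * (m * b * m⁻¹) * (m * c * m⁻¹) = m * x * m⁻¹ * (m * y * m⁻¹) := by
    rw [show m * a * m⁻¹ * (m * b * m⁻¹) * (m * c * m⁻¹) = m * (a * b * c) * m⁻¹ by group, h]; group
  rw [ea] at h'
  have h2 := congrArg K.img h'
  rw [mul_assoc, K.img_mul K.X.d_mem (mul_mem (K.L_mem_C hu) (K.L_mem_C hv)), K.img_d, one_mul,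
    K.img_mul (K.L_mem_C hu) (K.L_mem_C hv), K.img_mul (K.L_mem_C hp) (K.L_mem_C hq)] at h2
  rcases K.img_pair_eq hu hv hp hq (ea ▸ conj_ne m (Ne.symm hab)) (ea ▸ conj_ne m (Ne.symm hac))
    (ea ▸ conj_ne m e1) (ea ▸ conj_ne m e2) (conj_ne m hbc) (conj_ne m hxy) h2 with ⟨h3, h4⟩ | ⟨h3, h4⟩
  · rw [h3, h4, mul_assoc] at h'
    exact K.ne_one K.d_mem_cls (mul_eq_right.1 h')
  · rw [h3, h4, (K.L_commute hv hu).eq, mul_assoc] at h'
    exact K.ne_one K.d_mem_cls (mul_eq_right.1 h')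

/-- Products over the second class. -/
theorem class_one :
    (∀ u ∈ K.L, ∀ v ∈ K.L, u ≠ K.d → v ≠ K.d → u ≠ v → K.img u * K.img v ∈ K.X.D.O 1) ∧
      ∀ r ∈ K.X.D.O 1, ∃ u ∈ K.L, ∃ v ∈ K.L, u ≠ K.d ∧ v ≠ K.d ∧ u ≠ v ∧
        K.img u * K.img v = r := by
  classical
  haveI : Finite (Cfsg.PSU 6 F 2) := Finite.of_surjective K.X.f K.X.surj
  obtain ⟨M, hM⟩ : ∃ M : Finset G, M = (Set.toFinite (K.L \ {K.d})).toFinset := ⟨_, rfl⟩
  have hmem : ∀ x, x ∈ M ↔ x ∈ K.L ∧ x ≠ K.d := fun x => by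
    rw [hM, Set.Finite.mem_toFinset]; rfl
  have hMc : M.card = 21 := by
    rw [hM, ← Set.ncard_eq_toFinset_card _ (Set.toFinite _),
      Set.ncard_sdiff_singleton_of_mem K.d_mem_L, K.ncard_L]
  set φ : G × G → Cfsg.PSU 6 F 2 := fun p => K.img p.1 * K.img p.2 with hφ
  set Y := M.offDiag.image φ with hY
  have hYc : Y.card = 210 := by
    have h := Finset.card_eq_sum_card_image φ M.offDiag
    have hf : ∀ r ∈ Y, (M.offDiag.filter fun p => φ p = r).card = 2 := by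
      intro r hr
      obtain ⟨⟨u, v⟩, hp, rfl⟩ := Finset.mem_image.1 hr
      obtain ⟨hu, hv, huv⟩ := Finset.mem_offDiag.1 hp
      rw [Finset.card_eq_two]
      refine ⟨(u, v), (v, u), fun e => huv (congrArg Prod.fst e), ?_⟩
      ext ⟨x, y⟩
      simp only [Finset.mem_filter, Finset.mem_offDiag, Finset.mem_insert, Finset.mem_singleton,
        Prod.mk.injEq]
      constructor
      · rintro ⟨⟨hx, hy, hxy⟩, e⟩
        exact K.img_pair_eq ((hmem u).1 hu).1 ((hmem v).1 hv).1 ((hmem x).1 hx).1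
          ((hmem y).1 hy).1 ((hmem u).1 hu).2 ((hmem v).1 hv).2 ((hmem x).1 hx).2
          ((hmem y).1 hy).2 huv hxy e.symm
      · rintro (⟨rfl, rfl⟩ | ⟨rfl, rfl⟩)
        · exact ⟨⟨hu, hv, huv⟩, rfl⟩
        · exact ⟨⟨hv, hu, Ne.symm huv⟩,
            (K.img_commute ((hmem x).1 hv).1 ((hmem y).1 hu).1).eq⟩
    rw [← hY, Finset.sum_congr rfl hf, Finset.sum_const, Finset.offDiag_card, hMc, smul_eq_mul] at h
    omega
  have hYmem : ∀ r, r ∈ Y ↔ ∃ u ∈ K.L, ∃ v ∈ K.L, u ≠ K.d ∧ v ≠ K.d ∧ u ≠ v ∧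
      K.img u * K.img v = r := by
    intro r
    simp only [hY, Finset.mem_image, Finset.mem_offDiag, hmem, hφ, Prod.exists]
    exact ⟨fun ⟨a, b, ⟨⟨h1, h2⟩, ⟨h3, h4⟩, h5⟩, h6⟩ => ⟨a, h1, b, h3, h2, h4, h5, h6⟩,
      fun ⟨a, h1, b, h3, h2, h4, h5, h6⟩ => ⟨a, b, ⟨⟨h1, h2⟩, ⟨h3, h4⟩, h5⟩, h6⟩⟩
  have hclass : ∀ r ∈ Y, ∃ i, i ≠ 0 ∧ r ∈ K.X.D.O i := by
    intro r hr
    obtain ⟨u, hu, v, hv, hud, hvd, huv, rfl⟩ := (hYmem r).1 hr
    obtain ⟨i, hi⟩ := K.X.D.O_cover (K.img u * K.img v)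
      (mul_mem (K.X.D.O_sub 0 _ (K.img_mem_O hu hud)).1 (K.X.D.O_sub 0 _ (K.img_mem_O hv hvd)).1)
      (K.img_pair_ne_one hu hv huv)
    refine ⟨i, ?_, hi⟩
    rintro rfl
    obtain ⟨x, hx, hxd, e⟩ := K.exists_of_O hi
    exact K.img_pair_ne hu hv hud hvd huv hx hxd e.symm
  have hfull : ∀ i, ∀ r ∈ Y, r ∈ K.X.D.O i → ∀ r' ∈ K.X.D.O i, r' ∈ Y := by
    intro i r hr hri r' hr'
    obtain ⟨u, hu, v, hv, hud, hvd, huv, rfl⟩ := (hYmem r).1 hr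
    obtain ⟨g, hg, e⟩ := K.X.D.O_trans i _ hri _ hr'
    obtain ⟨c, rfl⟩ := K.X.surj g
    have hn := K.conj_normalizes hg
    refine (hYmem r').2 ⟨_, K.mem_L_conj hn hu, _, K.mem_L_conj hn hv,
      K.d_fixed (c := c) ▸ conj_ne _ hud, K.d_fixed (c := c) ▸ conj_ne _ hvd, conj_ne _ huv, ?_⟩
    have huC := K.L_mem_C hu
    have hvC := K.L_mem_C hv
    rw [K.img_mul (mul_mem c.2 huC) (inv_mem c.2), K.img_mul c.2 huC, K.img_mul
      (mul_mem c.2 hvC) (inv_mem c.2), K.img_mul c.2 hvC, K.img_inv c.2, K.img_eq c.2, ← e]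
    group
  have hsub : (Y : Set (Cfsg.PSU 6 F 2)) ⊆ K.X.D.O 1 := by
    intro r hr
    obtain ⟨i, hi0, hi⟩ := hclass r hr
    fin_cases i
    · exact absurd rfl hi0
    · exact hi
    · exfalso
      have := Set.ncard_le_ncard (fun r' hr' => hfull _ r hr hi r' hr' :
        K.X.D.O 2 ⊆ (Y : Set _))
      rw [K.X.D.O_card, Set.ncard_coe_finset, hYc] at this
      exact absurd this (by decide)
  refine ⟨fun u hu v hv hud hvd huv => hsub ((hYmem _).2 ⟨u, hu, v, hv, hud, hvd, huv, rfl⟩),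
    fun r hr => (hYmem r).1 ?_⟩
  have heq := Set.eq_of_subset_of_ncard_le hsub (by
    rw [K.X.D.O_card, Set.ncard_coe_finset, hYc]; rfl)
  rw [← heq] at hr
  exact hr

/-- The stabiliser of `d` is transitive on pairs. -/
theorem trans_pairs {u v x y : G} (hu : u ∈ K.L) (hv : v ∈ K.L) (hx : x ∈ K.L) (hy : y ∈ K.L)
    (hud : u ≠ K.d) (hvd : v ≠ K.d) (hxd : x ≠ K.d) (hyd : y ≠ K.d) (huv : u ≠ v) (hxy : x ≠ y) :
    ∃ n ∈ K.N, n * K.d * n⁻¹ = K.d ∧ n * (u * v) * n⁻¹ = x * y := by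
  obtain ⟨g, hg, e⟩ := K.X.D.O_trans 1 _ (K.class_one.1 u hu v hv hud hvd huv) _
    (K.class_one.1 x hx y hy hxd hyd hxy)
  obtain ⟨c, rfl⟩ := K.X.surj g
  have hn := K.conj_normalizes hg
  refine ⟨c, hn, K.d_fixed, ?_⟩
  have huC := K.L_mem_C hu
  have hvC := K.L_mem_C hv
  have h1 : K.img ((c : G) * u * (c : G)⁻¹) * K.img ((c : G) * v * (c : G)⁻¹) =
      K.img x * K.img y := by
    rw [K.img_mul (mul_mem c.2 huC) (inv_mem c.2), K.img_mul c.2 huC, K.img_mul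
      (mul_mem c.2 hvC) (inv_mem c.2), K.img_mul c.2 hvC, K.img_inv c.2, K.img_eq c.2, ← e]
    group
  rw [show (c : G) * (u * v) * (c : G)⁻¹ = (c * u * (c : G)⁻¹) * (c * v * (c : G)⁻¹) by group]
  rcases K.img_pair_eq (K.mem_L_conj hn hu) (K.mem_L_conj hn hv) hx hy
    (K.d_fixed (c := c) ▸ conj_ne _ hud) (K.d_fixed (c := c) ▸ conj_ne _ hvd) hxd hyd
    (conj_ne _ huv) hxy h1 with ⟨rfl, rfl⟩ | ⟨rfl, rfl⟩
  · rfl
  · exact (K.L_commute hy hx).eq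

theorem exists_base_pair : ∃ u ∈ K.L, ∃ v ∈ K.L, u ≠ K.d ∧ v ≠ K.d ∧ u ≠ v := by
  obtain ⟨u, hu, v, hv, h1, h2, h3, -⟩ := K.class_one.2 _
    (Set.nonempty_of_ncard_ne_zero (s := K.X.D.O 1) (by rw [K.X.D.O_card]; decide)).some_mem
  exact ⟨u, hu, v, hv, h1, h2, h3⟩

/-- The normaliser is transitive on triple products. -/
theorem trans_T3 {z z' : G} (hz : z ∈ K.T3) (hz' : z' ∈ K.T3) :
    ∃ n ∈ K.N, n * z * n⁻¹ = z' := by
  obtain ⟨u, hu, v, hv, hud, hvd, huv⟩ := K.exists_base_pair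
  suffices h : ∀ z ∈ K.T3, ∃ n ∈ K.N, n * z * n⁻¹ = K.d * u * v by
    obtain ⟨n, hn, e⟩ := h z hz
    obtain ⟨m, hm, e'⟩ := h z' hz'
    refine ⟨m⁻¹ * n, mul_mem (inv_mem hm) hn, ?_⟩
    calc m⁻¹ * n * z * (m⁻¹ * n)⁻¹ = m⁻¹ * (n * z * n⁻¹) * m := by group
      _ = z' := by rw [e, ← e']; group
  rintro _ ⟨a, ha, b, hb, c, hc, hab, hac, hbc, rfl⟩
  obtain ⟨n, hn, en⟩ := K.exists_move ha
  have ea : n⁻¹ * a * n⁻¹⁻¹ = K.d := by rw [← en]; group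
  obtain ⟨m, hm, emd, e⟩ := K.trans_pairs (K.mem_L_conj (inv_mem hn) hb)
    (K.mem_L_conj (inv_mem hn) hc) hu hv (ea ▸ conj_ne _ (Ne.symm hab))
    (ea ▸ conj_ne _ (Ne.symm hac)) hud hvd (conj_ne _ hbc) huv
  refine ⟨m * n⁻¹, mul_mem hm (inv_mem hn), ?_⟩
  calc m * n⁻¹ * (a * b * c) * (m * n⁻¹)⁻¹
      = (m * (n⁻¹ * a * n⁻¹⁻¹) * m⁻¹) * (m * (n⁻¹ * b * n⁻¹⁻¹ * (n⁻¹ * c * n⁻¹⁻¹)) * m⁻¹) := by
        group
    _ = K.d * u * v := by rw [ea, emd, e, mul_assoc]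

end Ctx

end Cfsg.Agent.ThreeTransp.U62Class
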