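import Cfsg.Agent.Lib.ThreeTransp.U62Class.Pairs

/-!
The members commuting with a triple product.
-/

set_option autoImplicit false
set_option linter.unusedSectionVars false
set_option linter.style.haveILetI false

namespace Cfsg.Agent.ThreeTransp.U62Class

variable {G F : Type*} [Group G] [Finite G] [Field F] [Fintype F] (K : Ctx G F)

namespace Ctx

/-- The product with `t` is a product of two commuting members. -/
def HasPair (t y : G) : Prop :=
  ∃ a ∈ K.cls, ∃ b ∈ K.cls, a ≠ b ∧ Commute a b ∧ a * b = t * y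

theorem hasPair_conj {t y g : G} (hg : Commute g t) (h : K.HasPair t y) :
    K.HasPair t (g * y * g⁻¹) := by
  obtain ⟨a, ha, b, hb, hne, hab, e⟩ := h
  refine ⟨_, K.conj_mem g ha, _, K.conj_mem g hb, conj_ne g hne, Basic.commute_conj.2 hab, ?_⟩
  rw [show g * a * g⁻¹ * (g * b * g⁻¹) = g * (a * b) * g⁻¹ by group, e]
  calc g * (t * y) * g⁻¹ = (g * t) * y * g⁻¹ := by group
    _ = _ := by rw [hg.eq]; group

/-- A member swapping two commuting members commutes with them. -/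
theorem commute_of_pair {y a b : G} (hy : y ∈ K.cls) (ha : a ∈ K.cls) (hb : b ∈ K.cls)
    (hab : Commute a b) (hne : a ≠ b) (h : Commute y (a * b)) : Commute y a := by
  have e : a * b = y * a * y⁻¹ * (y * b * y⁻¹) := by
    rw [show y * a * y⁻¹ * (y * b * y⁻¹) = y * (a * b) * y⁻¹ by group, h.eq, mul_inv_cancel_right]
  rcases K.pair_unique ha hb (K.conj_mem y ha) (K.conj_mem y hb) hab hne e with ⟨e1, -⟩ | ⟨e1, -⟩
  · exact mul_inv_eq_iff_eq_mul.1 e1
  by_contra hn
  rw [K.inv hy] at e1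
  have h4 : (y * a) ^ 4 = 1 := by
    rw [show (4 : ℕ) = 2 * 2 from rfl, pow_mul, show (y * a) ^ 2 = b * a by
      rw [pow_two, ← mul_assoc, e1], (Basic.sq_prod_eq_one_iff (K.sq hb) (K.sq ha)).2 hab.symm]
  obtain ⟨k, hk⟩ := K.odd_of_not_commute hy ha hn
  have h1 : orderOf (y * a) = 1 := by
    obtain ⟨i, hi, he⟩ := (Nat.dvd_prime_pow Nat.prime_two).1
      (show orderOf (y * a) ∣ 2 ^ 2 from orderOf_dvd_of_pow_eq_one h4)
    interval_cases i <;> omega
  exact hn (by rw [show y = a from (eq_inv_of_mul_eq_one_left (orderOf_eq_one_iff.1 h1)).trans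
    (K.inv ha)])

/-- Commuting members with product in the subgroup lie among the 22. -/
theorem pair_in_A {a b : G} (ha : a ∈ K.cls) (hb : b ∈ K.cls) (hab : Commute a b) (hne : a ≠ b)
    (h : a * b ∈ K.A) : a ∈ K.L ∧ b ∈ K.L := by
  set B := Subgroup.closure ({a, b} : Set G) with hB
  have hle : K.A ≤ Subgroup.normalizer (B : Set G) := by
    intro x hx
    have hsub : ∀ x ∈ K.A, ∀ p ∈ B, x * p * x⁻¹ ∈ B := by
      intro x hx p hp
      have e : a * b = x * a * x⁻¹ * (x * b * x⁻¹) := by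
        rw [show x * a * x⁻¹ * (x * b * x⁻¹) = x * (a * b) * x⁻¹ by group, K.X.comm_A hx h,
          mul_inv_cancel_right]
      have hBab : x * a * x⁻¹ ∈ B ∧ x * b * x⁻¹ ∈ B := by
        rcases K.pair_unique ha hb (K.conj_mem x ha) (K.conj_mem x hb) hab hne e with
          ⟨e1, e2⟩ | ⟨e1, e2⟩ <;> rw [e1, e2]
        · exact ⟨Subgroup.subset_closure (Or.inl rfl), Subgroup.subset_closure (Or.inr rfl)⟩
        · exact ⟨Subgroup.subset_closure (Or.inr rfl), Subgroup.subset_closure (Or.inl rfl)⟩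
      have hB' : B ≤ B.comap (MulAut.conj x).toMonoidHom := (Subgroup.closure_le _).2 (by
        rintro q (rfl | rfl)
        exacts [hBab.1, hBab.2])
      exact hB' hp
    refine Subgroup.mem_normalizer_iff.2 fun p => ⟨hsub x hx p, fun hp => ?_⟩
    have := hsub x⁻¹ (inv_mem hx) _ hp
    simpa [mul_assoc] using this
  haveI : Fact (Nat.Prime 2) := ⟨Nat.prime_two⟩
  have hA : IsPGroup 2 ↥K.A := IsPGroup.of_card (n := 10) K.X.card_A
  have hP := hA.to_sup_of_normal_right'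
    (Classes.isPGroup_closure_pair (K.sq ha) (K.sq hb) (by
      rw [show (4 : ℕ) = 2 * 2 from rfl, pow_mul,
        (Basic.sq_prod_eq_one_iff (K.sq ha) (K.sq hb)).2 hab, one_pow])) hle
  exact ⟨K.mem_L_of_two hP le_sup_left
      (Subgroup.mem_sup_right (Subgroup.subset_closure (Or.inl rfl))) ha,
    K.mem_L_of_two hP le_sup_left
      (Subgroup.mem_sup_right (Subgroup.subset_closure (Or.inr rfl))) hb⟩

theorem hasPair_of_triple {a b c : G} (ha : a ∈ K.L) (hb : b ∈ K.L) (hc : c ∈ K.L) (hbc : b ≠ c) :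
    K.HasPair (a * b * c) a := by
  refine ⟨b, hb.2, c, hc.2, hbc, K.L_commute hb hc, ?_⟩
  rw [mul_assoc a, K.X.comm_A ha.1 (mul_mem hb.1 hc.1), mul_assoc, K.L_sq ha, mul_one]

/-- The members of type one in `L`, as the first entries of the triples. -/
theorem triple_of_hasPair {t l : G} (ht : t ∈ K.T3) (hl : l ∈ K.L) (h : K.HasPair t l) :
    ∃ a ∈ K.L, ∃ b ∈ K.L, l ≠ a ∧ l ≠ b ∧ a ≠ b ∧ l * a * b = t := by
  obtain ⟨a, ha, b, hb, hne, hab, e⟩ := h
  obtain ⟨haL, hbL⟩ := K.pair_in_A ha hb hab hne (e ▸ mul_mem (K.T3_mem_A ht) hl.1)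
  have et : l * a * b = t := by
    rw [mul_assoc, e, K.X.comm_A (K.T3_mem_A ht) hl.1, ← mul_assoc, K.L_sq hl, one_mul]
  refine ⟨a, haL, b, hbL, ?_, ?_, hne, et⟩
  · rintro rfl
    exact K.T3_notMem ht (by rw [← et, K.L_sq hl, one_mul]; exact hb)
  · rintro rfl
    exact K.T3_notMem ht (by
      rw [← et, (K.L_commute hl haL).eq, mul_assoc, K.L_sq hl, mul_one]; exact ha)

/-- At most six members of `L` are of type one. -/
theorem ncard_type_one {t : G} (ht : t ∈ K.T3) : {l | l ∈ K.L ∧ K.HasPair t l}.ncard ≤ 6 := by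
  classical
  obtain ⟨Xs, hXs⟩ : ∃ Xs : Finset G, Xs = (Set.toFinite {l | l ∈ K.L ∧ K.HasPair t l}).toFinset :=
    ⟨_, rfl⟩
  obtain ⟨S, hS⟩ : ∃ S : Finset (G × G × G), S = K.Trip.filter fun p => prod3 p = t := ⟨_, rfl⟩
  have hmem : ∀ p ∈ S, p.1 ∈ Xs := by
    rintro ⟨a, b, c⟩ hp
    rw [hS, Finset.mem_filter, K.mem_Trip] at hp
    obtain ⟨⟨ha, hb, hc, -, -, hbc⟩, e⟩ := hp
    rw [hXs, Set.Finite.mem_toFinset]
    exact ⟨ha, e ▸ K.hasPair_of_triple ha hb hc hbc⟩
  have h := Finset.card_eq_sum_card_fiberwise (f := Prod.fst) hmem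
  have hf : ∀ l ∈ Xs, 2 ≤ (S.filter fun p => p.1 = l).card := by
    intro l hl
    rw [hXs, Set.Finite.mem_toFinset] at hl
    obtain ⟨a, ha, b, hb, hla, hlb, hab, e⟩ := K.triple_of_hasPair ht hl.1 hl.2
    refine Finset.one_lt_card.2 ⟨(l, a, b), ?_, (l, b, a), ?_, fun e' => hab
      (congrArg (fun q : G × G × G => q.2.1) e')⟩ <;>
      rw [Finset.mem_filter, hS, Finset.mem_filter, K.mem_Trip]
    · exact ⟨⟨⟨hl.1, ha, hb, hla, hlb, hab⟩, e⟩, rfl⟩
    · refine ⟨⟨⟨hl.1, hb, ha, hlb, hla, Ne.symm hab⟩, ?_⟩, rfl⟩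
      show l * b * a = t
      rw [mul_assoc, (K.L_commute hb ha).eq, ← mul_assoc, e]
  have h2 : Xs.card * 2 ≤ S.card := by
    rw [h, ← smul_eq_mul, ← Finset.sum_const]
    exact Finset.sum_le_sum hf
  have hc : S.card = 12 := hS ▸ K.fib_eq ht
  rw [Set.ncard_eq_toFinset_card _ (Set.toFinite _), ← hXs]
  omega

/-- A set avoiding at most six members generates the subgroup. -/
theorem closure_large {Y : Set G} (hY : Y ⊆ K.L) (h6 : (K.L \ Y).ncard ≤ 6) :
    K.A ≤ Subgroup.closure Y := by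
  classical
  by_contra hnle
  have hYA : Subgroup.closure Y ≤ K.A := (Subgroup.closure_le _).2 fun y hy => (hY hy).1
  obtain ⟨M, ⟨hYM, hMA⟩, hmax⟩ := (Set.toFinite
    {M : Subgroup G | Subgroup.closure Y ≤ M ∧ M < K.A}).exists_maximal
      ⟨_, le_rfl, lt_of_le_of_ne hYA fun e => hnle e.ge⟩
  have hmul : ∀ x ∈ K.A, x ∉ M → ∀ y ∈ K.A, y ∉ M → x * y ∈ M := by
    intro x hx hxM y hy hyM
    let M' : Subgroup G :=
      { carrier := {a | a ∈ M ∨ (a ∈ K.A ∧ x * a ∈ M)}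
        one_mem' := Or.inl M.one_mem
        mul_mem' := by
          rintro a b (ha | ⟨ha, ha'⟩) (hb | ⟨hb, hb'⟩)
          · exact Or.inl (M.mul_mem ha hb)
          · refine Or.inr ⟨mul_mem (hMA.le ha) hb, ?_⟩
            rw [← mul_assoc, K.X.comm_A hx (hMA.le ha), mul_assoc]
            exact M.mul_mem ha hb'
          · exact Or.inr ⟨mul_mem ha (hMA.le hb), by rw [← mul_assoc]; exact M.mul_mem ha' hb⟩
          · refine Or.inl ?_
            have h := M.mul_mem ha' hb'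
            rwa [K.X.comm_A hx ha, mul_assoc a x, ← mul_assoc x x, K.X.sq_A hx, one_mul] at h
        inv_mem' := by
          rintro a (ha | ⟨ha, ha'⟩)
          · exact Or.inl (M.inv_mem ha)
          · exact Or.inr ⟨inv_mem ha, by
              rwa [inv_eq_of_mul_eq_one_right (K.X.sq_A ha)]⟩ }
    by_contra hxy
    have hne : M' ≠ K.A := fun e => by
      rcases (e.ge hy : y ∈ M') with h | ⟨-, h⟩
      exacts [hyM h, hxy h]
    have hle : M' ≤ K.A := by
      rintro a (ha | ⟨ha, -⟩)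
      exacts [hMA.le ha, ha]
    have hMM' : M ≤ M' := fun a ha => Or.inl ha
    have hxM' : x ∈ M' := Or.inr ⟨hx, by rw [K.X.sq_A hx]; exact M.one_mem⟩
    exact hxM (hmax ⟨hYM.trans hMM', lt_of_le_of_ne hle hne⟩ hMM' hxM')
  obtain ⟨Ls, hLs⟩ : ∃ Ls : Finset G, Ls = (Set.toFinite K.L).toFinset := ⟨_, rfl⟩
  have hmL : ∀ x, x ∈ Ls ↔ x ∈ K.L := fun x => by rw [hLs, Set.Finite.mem_toFinset]
  obtain ⟨S, hS⟩ : ∃ S : Finset G, S = Ls.filter (fun x => x ∉ M) := ⟨_, rfl⟩
  obtain ⟨T, hT⟩ : ∃ T : Finset G, T = Ls.filter (fun x => x ∈ M) := ⟨_, rfl⟩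
  have hST : S.card + T.card = 22 := by
    rw [hS, hT, add_comm, Finset.card_filter_add_card_filter_not, hLs,
      ← Set.ncard_eq_toFinset_card _ (Set.toFinite _), K.ncard_L]
  have hS6 : S.card ≤ 6 := by
    refine le_trans ?_ h6
    rw [← Set.ncard_coe_finset]
    refine Set.ncard_le_ncard fun x hx => ?_
    rw [Finset.mem_coe, hS, Finset.mem_filter, hmL] at hx
    exact ⟨hx.1, fun h => hx.2 (hYM (Subgroup.subset_closure h))⟩
  have hmS : ∀ {x}, x ∈ K.L → x ∉ M → x ∈ S := fun hx h => by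
    rw [hS, Finset.mem_filter, hmL]; exact ⟨hx, h⟩
  have hmT : ∀ {x}, x ∈ K.L → x ∈ M → x ∈ T := fun hx h => by
    rw [hT, Finset.mem_filter, hmL]; exact ⟨hx, h⟩
  obtain ⟨U, hU⟩ : ∃ U : Finset (G × G × G), U = K.Trip.filter (fun p => prod3 p ∉ M) := ⟨_, rfl⟩
  have hUsub : U ⊆ S ×ˢ (T ×ˢ T) ∪ T ×ˢ (S ×ˢ T) ∪ T ×ˢ (T ×ˢ S) ∪ S ×ˢ (S ×ˢ S) := by
    rintro ⟨a, b, c⟩ hp
    rw [hU, Finset.mem_filter, K.mem_Trip] at hp
    obtain ⟨⟨ha, hb, hc, -, -, -⟩, hn⟩ := hp
    have h1 : prod3 (a, b, c) = a * b * c := rfl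
    rw [h1] at hn
    simp only [Finset.mem_union, Finset.mem_product]
    by_cases haM : a ∈ M <;> by_cases hbM : b ∈ M <;> by_cases hcM : c ∈ M
    · exact absurd (M.mul_mem (M.mul_mem haM hbM) hcM) hn
    · exact Or.inl (Or.inr ⟨hmT ha haM, hmT hb hbM, hmS hc hcM⟩)
    · exact Or.inl (Or.inl (Or.inr ⟨hmT ha haM, hmS hb hbM, hmT hc hcM⟩))
    · exact absurd (mul_assoc a b c ▸ M.mul_mem haM (hmul b hb.1 hbM c hc.1 hcM)) hn
    · exact Or.inl (Or.inl (Or.inl ⟨hmS ha haM, hmT hb hbM, hmT hc hcM⟩))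
    · refine absurd ?_ hn
      rw [mul_assoc, K.X.comm_A hb.1 hc.1, ← mul_assoc]
      exact M.mul_mem (hmul a ha.1 haM c hc.1 hcM) hbM
    · exact absurd (M.mul_mem (hmul a ha.1 haM b hb.1 hbM) hcM) hn
    · exact Or.inr ⟨hmS ha haM, hmS hb hbM, hmS hc hcM⟩
  have hUc : U.card ≤ 3 * (S.card * (T.card * T.card)) + S.card * (S.card * S.card) := by
    refine (Finset.card_le_card hUsub).trans ((Finset.card_union_le _ _).trans ?_)
    refine (Nat.add_le_add_right ((Finset.card_union_le _ _).trans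
      (Nat.add_le_add_right (Finset.card_union_le _ _) _)) _).trans (le_of_eq ?_)
    simp only [Finset.card_product]
    ring
  have hImg : (U.image prod3).card * 12 = U.card := by
    rw [Finset.card_eq_sum_card_image prod3 U, ← smul_eq_mul, ← Finset.sum_const]
    refine Finset.sum_congr rfl fun z hz => ?_
    obtain ⟨p, hp, rfl⟩ := Finset.mem_image.1 hz
    rw [hU, Finset.mem_filter] at hp
    rw [← K.fib_eq (z := prod3 p) (K.T3_image ▸ ⟨p, hp.1, rfl⟩), fib, hU, Finset.filter_filter]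
    refine congrArg Finset.card ((Finset.filter_congr fun q _ => ?_))
    exact ⟨fun h => ⟨h ▸ hp.2, h⟩, And.right⟩
  have hsub : ((K.A : Set G) \ M) ⊆
      ((S ∪ (S ×ˢ T).image (fun p => p.1 * p.2) ∪ U.image prod3 : Finset G) : Set G) := by
    rintro z ⟨hzA, hzM⟩
    simp only [Finset.coe_union, Set.mem_union, Finset.mem_coe, Finset.mem_image]
    rcases K.cover hzA with rfl | hz | hz | hz
    · exact absurd M.one_mem hzM
    · exact Or.inl (Or.inl (hmS hz hzM))
    · obtain ⟨a, ha, b, hb, -, rfl⟩ := hz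
      by_cases haM : a ∈ M <;> by_cases hbM : b ∈ M
      · exact absurd (M.mul_mem haM hbM) hzM
      · exact Or.inl (Or.inr ⟨(b, a), Finset.mem_product.2 ⟨hmS hb hbM, hmT ha haM⟩,
          (K.L_commute hb ha).eq⟩)
      · exact Or.inl (Or.inr ⟨(a, b), Finset.mem_product.2 ⟨hmS ha haM, hmT hb hbM⟩, rfl⟩)
      · exact absurd (hmul a ha.1 haM b hb.1 hbM) hzM
    · obtain ⟨⟨a, b, c⟩, hp, rfl⟩ : z ∈ prod3 '' (K.Trip : Set (G × G × G)) := K.T3_image ▸ hz
      exact Or.inr ⟨(a, b, c), by rw [hU, Finset.mem_filter]; exact ⟨hp, hzM⟩, rfl⟩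
  have hcount := Set.ncard_le_ncard hsub
  rw [Set.ncard_coe_finset, Set.ncard_sdiff (show (M : Set G) ⊆ K.A from hMA.le),
    ← Nat.card_coe_set_eq, ← Nat.card_coe_set_eq] at hcount
  have hcount' : Nat.card ↥K.A - Nat.card ↥M ≤ S.card + S.card * T.card + (U.image prod3).card := by
    refine hcount.trans ((Finset.card_union_le _ _).trans (Nat.add_le_add_right
      ((Finset.card_union_le _ _).trans (Nat.add_le_add_left (Finset.card_image_le.trans
        (le_of_eq (Finset.card_product S T))) _)) _))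
  have hM2 : Nat.card ↥M * 2 ≤ Nat.card ↥K.A := by
    obtain ⟨k, hk⟩ := Subgroup.card_dvd_of_le hMA.le
    have hpos : 0 < Nat.card ↥K.A := Nat.card_pos
    rcases k with - | - | k
    · omega
    · exact absurd (Subgroup.eq_of_le_of_card_ge hMA.le (by omega)) hMA.ne
    · nlinarith
  have hA : Nat.card ↥K.A = 2 ^ 10 := K.X.card_A
  obtain ⟨s, hs⟩ : ∃ s, s = S.card := ⟨_, rfl⟩
  have hTs : T.card = 22 - s := by omega
  rw [← hs, hTs] at hcount' hUc
  rw [← hs] at hS6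
  interval_cases s <;> omega

/-- A member of type one commuting with a triple product lies in `L`. -/
theorem type_one_mem {t y : G} (ht : t ∈ K.T3) (hy : y ∈ K.cls) (hyt : Commute y t)
    (h : K.HasPair t y) : y ∈ K.L := by
  obtain ⟨Y, hY⟩ : ∃ Y, Y = {l | l ∈ K.L ∧ ¬ K.HasPair t l} := ⟨_, rfl⟩
  have hle : K.A ≤ Subgroup.closure Y := by
    refine K.closure_large (fun l hl => (hY ▸ hl : l ∈ K.L ∧ _).1) (le_trans ?_ (K.ncard_type_one ht))
    refine Set.ncard_le_ncard fun l hl => ⟨hl.1, by_contra fun h => hl.2 (hY ▸ ⟨hl.1, h⟩)⟩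
  refine K.mem_L_of_centralizes hy fun z hz => ?_
  have hz' := hle hz.1
  clear hz
  induction hz' using Subgroup.closure_induction with
  | mem l hl =>
    rw [hY] at hl
    refine K.commute_of_not_conj hy hl.1.2 (M := Subgroup.centralizer ({t} : Set G))
      (Subgroup.mem_centralizer_singleton_iff.2 hyt.eq)
      (Subgroup.mem_centralizer_singleton_iff.2 (K.X.comm_A hl.1.1 (K.T3_mem_A ht)))
      fun g hg e => hl.2 (e ▸ K.hasPair_conj (Subgroup.mem_centralizer_singleton_iff.1 hg) h)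
  | one => exact Commute.one_right y
  | mul p q _ _ hp hq => exact hp.mul_right hq
  | inv p _ hp => exact hp.inv_right

/-- A member not of type one commutes with those of type one. -/
theorem type_two_commute {t y x : G} (ht : t ∈ K.T3) (hy : y ∈ K.cls) (hyt : Commute y t)
    (h : ¬ K.HasPair t y) (hx : x ∈ K.L) (hxt : K.HasPair t x) : Commute y x := by
  refine K.commute_of_not_conj hy hx.2 (M := Subgroup.centralizer ({t} : Set G))
    (Subgroup.mem_centralizer_singleton_iff.2 hyt.eq)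
    (Subgroup.mem_centralizer_singleton_iff.2 (K.X.comm_A hx.1 (K.T3_mem_A ht))) fun g hg e => h ?_
  have hc : Commute g⁻¹ t :=
    Commute.inv_left (Subgroup.mem_centralizer_singleton_iff.1 hg : Commute g t)
  have := K.hasPair_conj hc hxt
  rwa [← e, show g⁻¹ * (g * y * g⁻¹) * g⁻¹⁻¹ = y by group] at this

/-- A member commuting with a triple product is moved into `L` by its centraliser. -/
theorem exists_into_L {t y : G} (ht : t ∈ K.T3) (hy : y ∈ K.cls) (hyt : Commute y t) :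
    ∃ g : G, Commute g t ∧ g * y * g⁻¹ ∈ K.L := by
  haveI : Fact (Nat.Prime 2) := ⟨Nat.prime_two⟩
  set M := Subgroup.centralizer ({t} : Set G) with hM
  have hAM : K.A ≤ M := fun a ha =>
    Subgroup.mem_centralizer_singleton_iff.2 (K.X.comm_A ha (K.T3_mem_A ht))
  have hA : IsPGroup 2 ↥(K.A.subgroupOf M) := IsPGroup.of_card (n := 10)
    ((Nat.card_congr (Subgroup.subgroupOfEquivOfLe hAM).toEquiv).trans K.X.card_A)
  obtain ⟨Q₀, hQ₀⟩ := hA.exists_le_sylow
  set y' : ↥M := ⟨y, Subgroup.mem_centralizer_singleton_iff.2 hyt.eq⟩ with hy'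
  have hP : IsPGroup 2 ↥(Subgroup.zpowers y') := by
    refine IsPGroup.of_card (n := 1) ?_
    rw [Nat.card_zpowers, pow_one]
    exact orderOf_eq_prime (by rw [pow_two]; exact Subtype.ext (K.sq hy))
      (fun e => K.ne_one hy (congrArg Subtype.val e))
  obtain ⟨Q, hQ⟩ := hP.exists_le_sylow
  obtain ⟨g, hg⟩ := MulAction.exists_smul_eq ↥M Q Q₀
  refine ⟨g, Subgroup.mem_centralizer_singleton_iff.1 g.2, ?_⟩
  refine K.mem_L_of_two (P := (Q₀ : Subgroup ↥M).map M.subtype) (Q₀.isPGroup'.map _) ?_ ?_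
    (K.conj_mem _ hy)
  · rw [← Subgroup.map_subgroupOf_eq_of_le hAM]
    exact Subgroup.map_mono hQ₀
  · refine ⟨g * y' * g⁻¹, ?_, rfl⟩
    rw [← hg, Sylow.coe_subgroup_smul]
    exact ⟨y', hQ (Subgroup.mem_zpowers y'), rfl⟩

end Ctx

end Cfsg.Agent.ThreeTransp.U62Class
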