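import Cfsg.Agent.Lib.ThreeTransp.U62Class.Span

/-!
Each triple product comes from exactly two triples, and with the members and the pair products the
triple products fill the subgroup.
-/

set_option autoImplicit false
set_option linter.unusedSectionVars false
set_option linter.style.haveILetI false

namespace Cfsg.Agent.ThreeTransp.U62Class

variable {G F : Type*} [Group G] [Finite G] [Field F] [Fintype F] (K : Ctx G F)

namespace Ctx

theorem lift_cases {x y : G} (hx : x ∈ K.C) (hy : y ∈ K.C) (h : K.img x = K.img y) :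
    y = x ∨ y = x * K.d := by
  rw [K.img_eq hx, K.img_eq hy] at h
  exact (K.X.eq_of_f h).imp (congrArg Subtype.val) (congrArg Subtype.val)

theorem A_mem_C {x : G} (hx : x ∈ K.A) : x ∈ K.C := K.X.A_le hx

theorem img_mem_E {x : G} (hx : x ∈ K.A) : K.img x ∈ K.X.D.E := by
  obtain ⟨hxC, hE⟩ := K.X.mem_A.1 hx
  rwa [K.img_eq hxC]

theorem T3_mem_A {z : G} (hz : z ∈ K.T3) : z ∈ K.A := by
  obtain ⟨a, ha, b, hb, c, hc, -, -, -, rfl⟩ := hz
  exact mul_mem (mul_mem ha.1 hb.1) hc.1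

theorem T3_conj {n z : G} (hn : n ∈ K.N) (hz : z ∈ K.T3) : n * z * n⁻¹ ∈ K.T3 := by
  obtain ⟨a, ha, b, hb, c, hc, hab, hac, hbc, rfl⟩ := hz
  exact ⟨_, K.mem_L_conj hn ha, _, K.mem_L_conj hn hb, _, K.mem_L_conj hn hc, conj_ne n hab,
    conj_ne n hac, conj_ne n hbc, by group⟩

theorem T3_notMem {z : G} (hz : z ∈ K.T3) : z ∉ K.cls := by
  intro h
  have hA := K.T3_mem_A hz
  obtain ⟨a, ha, b, hb, c, hc, hab, hac, hbc, rfl⟩ := hz
  exact K.triple_notMem ha hb hc hab hac hbc ⟨hA, h⟩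

theorem P2_notMem {z : G} (hz : z ∈ K.P2) : z ∉ K.cls := by
  obtain ⟨a, ha, b, hb, hne, rfl⟩ := hz
  exact fun h => K.pair_notMem ha hb hne ⟨mul_mem ha.1 hb.1, h⟩

theorem T3_notP2 {z : G} (hz : z ∈ K.T3) : z ∉ K.P2 := by
  obtain ⟨a, ha, b, hb, c, hc, hab, hac, hbc, rfl⟩ := hz
  rintro ⟨x, hx, y, hy, -, e⟩
  exact K.triple_ne_pair ha hb hc hab hac hbc hx hy e.symm

theorem T3_ne_one {z : G} (hz : z ∈ K.T3) : z ≠ 1 := by
  obtain ⟨a, ha, b, hb, c, hc, hab, -, -, rfl⟩ := hz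
  exact K.triple_ne_one ha hb hc hab

/-- The elements over the classes other than the last. -/
theorem low_class {z : G} (hz : z ∈ K.A) (h : K.img z ∉ K.X.D.O 2) :
    z = 1 ∨ z ∈ K.L ∨ z ∈ K.P2 ∨ ∃ u ∈ K.L, ∃ v ∈ K.L,
      u ≠ K.d ∧ v ≠ K.d ∧ u ≠ v ∧ z = K.d * u * v := by
  have hzC := K.A_mem_C hz
  by_cases h1 : K.img z = 1
  · rcases K.lift_cases (one_mem _) hzC
      (show K.img 1 = K.img z by rw [h1, K.img_eq (one_mem _)]; exact map_one _) with e | e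
    · exact Or.inl e
    · exact Or.inr (Or.inl (e.trans (one_mul _) ▸ K.d_mem_L))
  obtain ⟨i, hi⟩ := K.X.D.O_cover _ (K.img_mem_E hz) h1
  fin_cases i
  · obtain ⟨x, hx, hxd, e⟩ := K.exists_of_O hi
    rcases K.lift_cases (K.L_mem_C hx) hzC e with e' | e'
    · exact Or.inr (Or.inl (e' ▸ hx))
    · exact Or.inr (Or.inr (Or.inl ⟨x, hx, K.d, K.d_mem_L, hxd, e'.symm⟩))
  · obtain ⟨u, hu, v, hv, hud, hvd, huv, e⟩ := K.class_one.2 _ hi
    rcases K.lift_cases (mul_mem (K.L_mem_C hu) (K.L_mem_C hv)) hzC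
      (by rw [K.img_mul (K.L_mem_C hu) (K.L_mem_C hv)]; exact e) with e' | e'
    · exact Or.inr (Or.inr (Or.inl ⟨u, hu, v, hv, huv, e'.symm⟩))
    · refine Or.inr (Or.inr (Or.inr ⟨u, hu, v, hv, hud, hvd, huv, ?_⟩))
      rw [e', K.X.comm_A (mul_mem hu.1 hv.1) K.X.d_mem_A, mul_assoc]
  · exact absurd hi h

theorem img_dpair {u v : G} (hu : u ∈ K.L) (hv : v ∈ K.L) :
    K.img (K.d * u * v) = K.img u * K.img v := by
  rw [K.img_mul (mul_mem K.X.d_mem (K.L_mem_C hu)) (K.L_mem_C hv),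
    K.img_mul K.X.d_mem (K.L_mem_C hu), K.img_d, one_mul]

open scoped _root_.Classical in
/-- The ordered triples. -/
noncomputable def Trip : Finset (G × G × G) :=
  haveI := Fintype.ofFinite G
  Finset.univ.filter fun p =>
    p.1 ∈ K.L ∧ p.2.1 ∈ K.L ∧ p.2.2 ∈ K.L ∧ p.1 ≠ p.2.1 ∧ p.1 ≠ p.2.2 ∧ p.2.1 ≠ p.2.2

theorem mem_Trip {p : G × G × G} : p ∈ K.Trip ↔
    p.1 ∈ K.L ∧ p.2.1 ∈ K.L ∧ p.2.2 ∈ K.L ∧ p.1 ≠ p.2.1 ∧ p.1 ≠ p.2.2 ∧ p.2.1 ≠ p.2.2 := by
  simp [Trip]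

/-- The product of an ordered triple. -/
def prod3 (p : G × G × G) : G := p.1 * p.2.1 * p.2.2

theorem card_Trip : K.Trip.card = 9240 := by
  classical
  obtain ⟨Ls, hLs⟩ : ∃ Ls : Finset G, Ls = (Set.toFinite K.L).toFinset := ⟨_, rfl⟩
  have hmem : ∀ x, x ∈ Ls ↔ x ∈ K.L := fun x => by rw [hLs, Set.Finite.mem_toFinset]
  have hc : Ls.card = 22 := by
    rw [hLs, ← Set.ncard_eq_toFinset_card _ (Set.toFinite _), K.ncard_L]
  have h := Finset.card_eq_sum_card_fiberwise (s := K.Trip) (t := Ls.offDiag)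
    (f := fun p => (p.1, p.2.1)) (fun p hp => by
      obtain ⟨h1, h2, -, h3, -, -⟩ := K.mem_Trip.1 hp
      exact Finset.mem_offDiag.2 ⟨(hmem _).2 h1, (hmem _).2 h2, h3⟩)
  have hf : ∀ q ∈ Ls.offDiag, (K.Trip.filter fun p => (p.1, p.2.1) = q).card = 20 := by
    rintro ⟨a, b⟩ hq
    obtain ⟨ha, hb, hab⟩ := Finset.mem_offDiag.1 hq
    have e : (K.Trip.filter fun p => (p.1, p.2.1) = (a, b)) =
        ((Ls.erase a).erase b).map ⟨fun c => (a, b, c), fun c c' e => by simpa using e⟩ := by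
      ext ⟨x, y, z⟩
      simp only [Finset.mem_filter, K.mem_Trip, Prod.mk.injEq, Finset.mem_map, Finset.mem_erase,
        hmem]
      constructor
      · rintro ⟨⟨-, -, hz, -, h1, h2⟩, rfl, rfl⟩
        exact ⟨z, ⟨Ne.symm h2, Ne.symm h1, hz⟩, rfl⟩
      · rintro ⟨c, ⟨h2, h1, hz⟩, e⟩
        cases e
        exact ⟨⟨(hmem _).1 ha, (hmem _).1 hb, hz, hab, Ne.symm h1, Ne.symm h2⟩, rfl, rfl⟩
    rw [e, Finset.card_map, Finset.card_erase_of_mem (Finset.mem_erase.2 ⟨Ne.symm hab, hb⟩),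
      Finset.card_erase_of_mem ha, hc]
  rw [Finset.sum_congr rfl hf, Finset.sum_const, Finset.offDiag_card, hc, smul_eq_mul] at h
  exact h

open scoped _root_.Classical in
/-- The number of ordered triples with a given product. -/
noncomputable def fib (z : G) : ℕ := (K.Trip.filter fun p => prod3 p = z).card

theorem fib_const {z z' : G} (hz : z ∈ K.T3) (hz' : z' ∈ K.T3) : K.fib z ≤ K.fib z' := by
  classical
  obtain ⟨n, hn, e⟩ := K.trans_T3 hz hz'
  refine Finset.card_le_card_of_injOn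
    (fun p => (n * p.1 * n⁻¹, n * p.2.1 * n⁻¹, n * p.2.2 * n⁻¹)) ?_ ?_
  · intro p hp
    obtain ⟨hp, ep⟩ := Finset.mem_filter.1 hp
    obtain ⟨h1, h2, h3, h4, h5, h6⟩ := K.mem_Trip.1 hp
    refine Finset.mem_filter.2 ⟨K.mem_Trip.2 ⟨K.mem_L_conj hn h1, K.mem_L_conj hn h2,
      K.mem_L_conj hn h3, conj_ne n h4, conj_ne n h5, conj_ne n h6⟩, ?_⟩
    rw [← e, ← ep, prod3, prod3]
    group
  · intro p _ q _ h
    simp only [Prod.mk.injEq, mul_left_inj, mul_right_inj] at h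
    exact Prod.ext h.1 (Prod.ext h.2.1 h.2.2)

theorem fib_three (z : G) : 3 ∣ K.fib z := by
  classical
  by_contra h
  obtain ⟨α, hα⟩ : ∃ α : Finset (G × G × G), α = K.Trip.filter fun p => prod3 p = z := ⟨_, rfl⟩
  have hmemα : ∀ p : G × G × G, p ∈ α → (p.2.1, p.2.2, p.1) ∈ α := by
    rintro ⟨a, b, c⟩ hp
    rw [hα, Finset.mem_filter, K.mem_Trip] at hp ⊢
    obtain ⟨⟨ha, hb, hc, hab, hac, hbc⟩, e⟩ := hp
    refine ⟨⟨hb, hc, ha, hbc, Ne.symm hab, Ne.symm hac⟩, ?_⟩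
    rw [← e, prod3, prod3, mul_assoc a b c]
    exact (K.X.comm_A ha.1 (mul_mem hb.1 hc.1)).symm
  let σ : Equiv.Perm ↥α :=
    { toFun := fun p => ⟨_, hmemα p.1 p.2⟩
      invFun := fun p => ⟨_, hmemα _ (hmemα p.1 p.2)⟩
      left_inv := fun _ => rfl
      right_inv := fun _ => rfl }
  haveI : Fact (Nat.Prime 3) := ⟨Nat.prime_three⟩
  have hσ : σ ^ 3 ^ 1 = 1 := Equiv.ext fun _ => rfl
  obtain ⟨⟨⟨a, b, c⟩, hp⟩, e⟩ := Equiv.Perm.exists_fixed_point_of_prime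
    (p := 3) (by rwa [Fintype.card_coe, hα]) hσ
  have hab : b = a := congrArg (fun q : ↥α => q.1.1) e
  rw [hα, Finset.mem_filter, K.mem_Trip] at hp
  exact hp.1.2.2.2.1 hab.symm

theorem T3_image : K.T3 = prod3 '' (K.Trip : Set (G × G × G)) := by
  ext z
  constructor
  · rintro ⟨a, ha, b, hb, c, hc, hab, hac, hbc, rfl⟩
    exact ⟨(a, b, c), K.mem_Trip.2 ⟨ha, hb, hc, hab, hac, hbc⟩, rfl⟩
  · rintro ⟨⟨a, b, c⟩, hp, rfl⟩
    obtain ⟨ha, hb, hc, hab, hac, hbc⟩ := K.mem_Trip.1 hp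
    exact ⟨a, ha, b, hb, c, hc, hab, hac, hbc, rfl⟩

theorem fib_mul {z : G} (hz : z ∈ K.T3) : K.T3.ncard * K.fib z = 9240 := by
  classical
  have h := Finset.card_eq_sum_card_image prod3 K.Trip
  rw [K.card_Trip, Finset.sum_congr rfl (g := fun _ => K.fib z), Finset.sum_const, smul_eq_mul,
    ← Set.ncard_coe_finset, Finset.coe_image, ← K.T3_image] at h
  · exact h.symm
  · intro w hw
    rw [← Finset.mem_coe, Finset.coe_image, ← K.T3_image] at hw
    exact le_antisymm (K.fib_const hw hz) (K.fib_const hz hw)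

/-- The sets of triple products by class: 210 and 560. -/
theorem T3_count : K.T3.ncard = 770 ∧ ∀ z ∈ K.A, K.img z ∈ K.X.D.O 2 → z ∈ K.T3 := by
  classical
  haveI : Finite (Cfsg.PSU 6 F 2) := Finite.of_surjective K.X.f K.X.surj
  set Z := {z | z ∈ K.T3 ∧ K.img z ∈ K.X.D.O 1} with hZ
  set W := {z | z ∈ K.T3 ∧ K.img z ∈ K.X.D.O 2} with hW
  have hsplit : ∀ z ∈ K.T3, K.img z ∉ K.X.D.O 2 → K.img z ∈ K.X.D.O 1 ∧
      ∃ u ∈ K.L, ∃ v ∈ K.L, u ≠ K.d ∧ v ≠ K.d ∧ u ≠ v ∧ z = K.d * u * v := by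
    intro z hz h
    rcases K.low_class (K.T3_mem_A hz) h with e | e | e | ⟨u, hu, v, hv, hud, hvd, huv, e⟩
    · exact absurd e (K.T3_ne_one hz)
    · exact absurd e.2 (K.T3_notMem hz)
    · exact absurd e (K.T3_notP2 hz)
    · refine ⟨?_, u, hu, v, hv, hud, hvd, huv, e⟩
      rw [e, K.img_dpair hu hv]
      exact K.class_one.1 u hu v hv hud hvd huv
  have hdis : ∀ z, z ∈ Z → z ∉ W := fun z h1 h2 =>
    Set.disjoint_left.1 (K.X.D.O_disj 1 2 (by decide)) h1.2 h2.2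
  have hT : K.T3 = Z ∪ W := by
    ext z
    refine ⟨fun hz => ?_, fun h => h.elim And.left And.left⟩
    by_cases h : K.img z ∈ K.X.D.O 2
    · exact Or.inr ⟨hz, h⟩
    · exact Or.inl ⟨hz, (hsplit z hz h).1⟩
  have hZc : Z.ncard = 210 := by
    rw [show (210 : ℕ) = (K.X.D.O 1).ncard from (K.X.D.O_card 1).symm]
    refine Set.ncard_congr (fun z _ => K.img z) (fun z hz => hz.2) ?_ ?_
    · intro z z' hz hz' e
      rcases K.lift_cases (K.A_mem_C (K.T3_mem_A hz.1)) (K.A_mem_C (K.T3_mem_A hz'.1)) e with e' | e'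
      · exact e'.symm
      · exfalso
        obtain ⟨-, u, hu, v, hv, -, -, huv, rfl⟩ := hsplit z hz.1
          (fun h => hdis z hz ⟨hz.1, h⟩)
        refine K.T3_notP2 hz'.1 ⟨u, hu, v, hv, huv, ?_⟩
        rw [e', mul_assoc K.d, K.X.comm_A K.X.d_mem_A (mul_mem hu.1 hv.1), mul_assoc (u * v),
          K.X.d_sq, mul_one]
    · intro r hr
      obtain ⟨u, hu, v, hv, hud, hvd, huv, e⟩ := K.class_one.2 r hr
      refine ⟨K.d * u * v, ⟨⟨_, K.d_mem_L, u, hu, v, hv, Ne.symm hud, Ne.symm hvd, huv, rfl⟩,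
        ?_⟩, ?_⟩ <;> rw [K.img_dpair hu hv, e]
      exact hr
  obtain ⟨u₀, hu₀, v₀, hv₀, hud, hvd, huv⟩ := K.exists_base_pair
  have hz₀ : K.d * u₀ * v₀ ∈ K.T3 :=
    ⟨_, K.d_mem_L, u₀, hu₀, v₀, hv₀, Ne.symm hud, Ne.symm hvd, huv, rfl⟩
  have hfib := K.fib_mul hz₀
  have hWc : W.ncard = 0 ∨ W.ncard = 280 ∨
      (W.ncard = 560 ∧ ∀ z ∈ K.A, K.img z ∈ K.X.D.O 2 → z ∈ K.T3) := by
    by_cases hne : W.Nonempty
    swap
    · exact Or.inl (by rw [Set.not_nonempty_iff_eq_empty.1 hne, Set.ncard_empty])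
    obtain ⟨z₁, hz₁⟩ := hne
    have himg : K.img '' W = K.X.D.O 2 := by
      refine Set.Subset.antisymm (by rintro _ ⟨z, hz, rfl⟩; exact hz.2) fun r hr => ?_
      obtain ⟨g, hg, e⟩ := K.X.D.O_trans 2 _ hz₁.2 _ hr
      obtain ⟨c, rfl⟩ := K.X.surj g
      have hzC := K.A_mem_C (K.T3_mem_A hz₁.1)
      have e' : K.img ((c : G) * z₁ * (c : G)⁻¹) = r := by
        rw [K.img_mul (mul_mem c.2 hzC) (inv_mem c.2), K.img_mul c.2 hzC, K.img_inv c.2,
          K.img_eq c.2]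
        exact e
      exact ⟨_, ⟨K.T3_conj (K.conj_normalizes hg) hz₁.1, e' ▸ hr⟩, e'⟩
    by_cases hinj : Set.InjOn K.img W
    · refine Or.inr (Or.inl ?_)
      rw [← Set.InjOn.ncard_image hinj, himg, K.X.D.O_card]
      rfl
    refine Or.inr (Or.inr ?_)
    obtain ⟨x, hx, y, hy, exy, hne⟩ : ∃ x ∈ W, ∃ y ∈ W, K.img x = K.img y ∧ x ≠ y := by
      simpa [Set.InjOn] using hinj
    have hxd : x * K.d ∈ K.T3 := by
      rcases K.lift_cases (K.A_mem_C (K.T3_mem_A hx.1)) (K.A_mem_C (K.T3_mem_A hy.1)) exy with e | e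
      · exact absurd e.symm hne
      · exact e ▸ hy.1
    have hall : ∀ z ∈ K.A, K.img z ∈ K.X.D.O 2 → z ∈ K.T3 := by
      intro z hz hz2
      obtain ⟨g, hg, e⟩ := K.X.D.O_trans 2 _ hx.2 _ hz2
      obtain ⟨c, rfl⟩ := K.X.surj g
      have hn := K.conj_normalizes hg
      have hxC := K.A_mem_C (K.T3_mem_A hx.1)
      have e' : K.img ((c : G) * x * (c : G)⁻¹) = K.img z := by
        rw [K.img_mul (mul_mem c.2 hxC) (inv_mem c.2), K.img_mul c.2 hxC, K.img_inv c.2,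
          K.img_eq c.2]
        exact e
      rcases K.lift_cases (mul_mem (mul_mem c.2 hxC) (inv_mem c.2)) (K.A_mem_C hz) e' with h | h
      · exact h ▸ K.T3_conj hn hx.1
      · rw [h]
        have h' := K.T3_conj hn hxd
        rwa [show (c : G) * (x * K.d) * (c : G)⁻¹ = (c : G) * x * (c : G)⁻¹ *
          ((c : G) * K.d * (c : G)⁻¹) by group, K.d_fixed] at h'
    refine ⟨?_, hall⟩
    rw [show (560 : ℕ) = {c : ↥K.C | K.X.f c ∈ K.X.D.O 2}.ncard from (K.X.pre_ncard 2).symm]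
    symm
    refine Set.ncard_congr (fun c _ => (c : G)) ?_ (fun _ _ _ _ h => Subtype.ext h) ?_
    · intro c hc
      have h2 : K.img (c : G) ∈ K.X.D.O 2 := by rw [K.img_eq c.2]; exact hc
      exact ⟨hall _ (K.X.mem_A.2 ⟨c.2, (K.X.D.O_sub _ _ hc).1⟩) h2, h2⟩
    · intro z hz
      have hzC := K.A_mem_C (K.T3_mem_A hz.1)
      exact ⟨⟨z, hzC⟩, by rw [Set.mem_ofPred_eq, ← K.img_eq hzC]; exact hz.2, rfl⟩
  have hcard : K.T3.ncard = 210 + W.ncard := by
    rw [hT, Set.ncard_union_eq (Set.disjoint_left.2 hdis), hZc]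
  rw [hcard] at hfib ⊢
  rcases hWc with e | e | ⟨e, hall⟩
  · rw [e] at hfib
    have := K.fib_three (K.d * u₀ * v₀)
    omega
  · rw [e] at hfib; omega
  · exact ⟨by rw [e], hall⟩

theorem fib_eq {z : G} (hz : z ∈ K.T3) : K.fib z = 12 := by
  have h := K.fib_mul hz
  rw [K.T3_count.1] at h
  omega

/-- Members, pair products and triple products fill the subgroup. -/
theorem cover {z : G} (hz : z ∈ K.A) : z = 1 ∨ z ∈ K.L ∨ z ∈ K.P2 ∨ z ∈ K.T3 := by
  by_cases h : K.img z ∈ K.X.D.O 2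
  · exact Or.inr (Or.inr (Or.inr (K.T3_count.2 z hz h)))
  rcases K.low_class hz h with e | e | e | ⟨u, hu, v, hv, hud, hvd, huv, e⟩
  · exact Or.inl e
  · exact Or.inr (Or.inl e)
  · exact Or.inr (Or.inr (Or.inl e))
  · exact Or.inr (Or.inr (Or.inr ⟨_, K.d_mem_L, u, hu, v, hv, Ne.symm hud, Ne.symm hvd, huv,
      e.symm⟩))

/-- Pair products generate the subgroup. -/
theorem closure_P2 : K.A ≤ Subgroup.closure K.P2 := by
  classical
  set B := Subgroup.closure K.P2 with hB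
  have hBA : B ≤ K.A := (Subgroup.closure_le _).2 (by
    rintro _ ⟨a, ha, b, hb, -, rfl⟩; exact mul_mem ha.1 hb.1)
  suffices hd : K.d ∈ B by
    rw [← K.closure_L, Subgroup.closure_le]
    intro x hx
    by_cases e : x = K.d
    · exact e ▸ hd
    · have h := B.mul_mem hd (Subgroup.subset_closure (⟨_, K.d_mem_L, x, hx, Ne.symm e, rfl⟩ :
        K.d * x ∈ K.P2))
      rwa [← mul_assoc, K.X.d_sq, one_mul] at h
  by_contra hd
  -- all of the members and triple products would avoid `B`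
  have hL : ∀ x ∈ K.L, x ∉ B := by
    intro x hx h
    by_cases e : x = K.d
    · exact hd (e ▸ h)
    · refine hd ?_
      have h' := B.mul_mem h (Subgroup.subset_closure (⟨x, hx, _, K.d_mem_L, e, rfl⟩ :
        x * K.d ∈ K.P2))
      rwa [← mul_assoc, K.L_sq hx, one_mul] at h'
  have hT : ∀ z ∈ K.T3, z ∉ B := by
    rintro _ ⟨a, ha, b, hb, c, hc, hab, -, -, rfl⟩ h
    refine hL c hc ?_
    have h' := B.mul_mem (B.inv_mem (Subgroup.subset_closure (⟨a, ha, b, hb, hab, rfl⟩ :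
      a * b ∈ K.P2))) h
    rwa [mul_assoc a b c, ← mul_assoc (a * b)⁻¹, show (a * b)⁻¹ * a * (b * c) = c by group] at h'
  have hidx : Nat.card ↥B * 2 ≥ 2 ^ 10 := by
    rw [← K.X.card_A]
    have hsub : (K.A : Set G) ⊆ (B : Set G) ∪ (fun y => K.d * y) '' (B : Set G) := by
      intro a ha
      rw [SetLike.mem_coe, ← K.closure_L] at ha
      induction ha using Subgroup.closure_induction with
      | mem x hx =>
        refine Or.inr ⟨K.d * x, ?_, K.X.self_mul K.X.d_mem_A x⟩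
        by_cases e : x = K.d
        · rw [e, K.X.d_sq]; exact B.one_mem
        · exact Subgroup.subset_closure ⟨_, K.d_mem_L, x, hx, Ne.symm e, rfl⟩
      | one => exact Or.inl B.one_mem
      | mul a b _ hb iha ihb =>
        rcases iha with iha | ⟨p, hp, rfl⟩ <;> rcases ihb with ihb | ⟨q, hq, rfl⟩
        · exact Or.inl (B.mul_mem iha ihb)
        · refine Or.inr ⟨a * q, B.mul_mem iha hq, ?_⟩
          show K.d * (a * q) = a * (K.d * q)
          rw [← mul_assoc, K.X.comm_A K.X.d_mem_A (hBA iha), mul_assoc]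
        · exact Or.inr ⟨p * b, B.mul_mem hp ihb, (mul_assoc _ _ _).symm⟩
        · refine Or.inl ?_
          show K.d * p * (K.d * q) ∈ B
          rw [K.X.comm_A K.X.d_mem_A (hBA hp), mul_assoc p, ← mul_assoc K.d, K.X.d_sq, one_mul]
          exact B.mul_mem hp hq
      | inv a _ iha =>
        rcases iha with iha | ⟨p, hp, rfl⟩
        · exact Or.inl (B.inv_mem iha)
        · refine Or.inr ⟨p⁻¹, B.inv_mem hp, ?_⟩
          show K.d * p⁻¹ = (K.d * p)⁻¹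
          rw [_root_.mul_inv_rev, K.inv K.d_mem_cls, K.X.comm_A K.X.d_mem_A (hBA (B.inv_mem hp))]
    calc Nat.card ↥K.A = (K.A : Set G).ncard := Nat.card_coe_set_eq _
      _ ≤ ((B : Set G) ∪ (fun y => K.d * y) '' (B : Set G)).ncard := Set.ncard_le_ncard hsub
      _ ≤ (B : Set G).ncard + ((fun y => K.d * y) '' (B : Set G)).ncard := Set.ncard_union_le _ _
      _ = _ := by
        rw [Set.ncard_image_of_injective _ (mul_right_injective _), ← Nat.card_coe_set_eq]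
        exact (mul_two _).symm
  have hout : K.L ∪ K.T3 ⊆ (K.A : Set G) \ B := by
    rintro z (hz | hz)
    · exact ⟨hz.1, hL z hz⟩
    · exact ⟨K.T3_mem_A hz, hT z hz⟩
  have hcount := Set.ncard_le_ncard hout
  rw [Set.ncard_sdiff (show (B : Set G) ⊆ K.A from hBA),
    Set.ncard_union_eq (Set.disjoint_left.2 fun z h1 h2 => K.T3_notMem h2 h1.2), K.ncard_L,
    K.T3_count.1, ← Nat.card_coe_set_eq, ← Nat.card_coe_set_eq] at hcount
  have hA := K.X.card_A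
  change 22 + 770 ≤ Nat.card ↥K.A - Nat.card ↥B at hcount
  change Nat.card ↥K.A = 2 ^ 10 at hA
  omega

end Ctx

end Cfsg.Agent.ThreeTransp.U62Class
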